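import Cfsg.Agent.H35.D4Torus.Cent

/-!
The twist on `⟨X₂₃, X₀⟩` and on weights of torus elements.
-/

set_option autoImplicit false
set_option linter.unusedSectionVars false

open Cfsg.Lie
open scoped MatrixGroups

namespace H35.D4Torus

open D4Min (Frob tc wt)

variable {K : Type*} [Field K]

local notation "x" => H52.rt chevD4

/-- `torus(c₀, 1, c₂, c₃)`. -/
def outC (a b c : Kˣ) : Fin chevD4.rank → Kˣ := fun i => [a, 1, b, c].getD i.val 1

theorem wt_simple (a b c : Kˣ) :
    wt (outC a b c) 18 = (a : K) ^ 2 ∧ wt (outC a b c) 13 = (b : K) ^ 2 ∧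
      wt (outC a b c) 12 = (c : K) ^ 2 ∧ wt (outC a b c) 14 = ((a : K) * b * c)⁻¹ := by
  have key : ∀ (r : ℕ) (i0 i1 i2 i3 : ℤ), chevD4.cartan 0 r = i0 → chevD4.cartan 1 r = i1 →
      chevD4.cartan 2 r = i2 → chevD4.cartan 3 r = i3 →
      wt (outC a b c) r = (a : K) ^ i0 * (b : K) ^ i2 * (c : K) ^ i3 := by
    intro r i0 i1 i2 i3 h0 h1 h2 h3
    show ((∏ i : Fin 4, outC a b c i ^ chevD4.cartan i.val r : Kˣ) : K) = _
    rw [Fin.prod_univ_four]
    simp [outC, h0, h1, h2, h3, Units.val_zpow_eq_zpow_val]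
  refine ⟨?_, ?_, ?_, ?_⟩
  · rw [key 18 2 (-1) 0 0 (by decide +kernel) (by decide +kernel) (by decide +kernel) (by decide +kernel)]
    simp [zpow_two, sq]
  · rw [key 13 0 (-1) 2 0 (by decide +kernel) (by decide +kernel) (by decide +kernel) (by decide +kernel)]
    simp [zpow_two, sq]
  · rw [key 12 0 (-1) 0 2 (by decide +kernel) (by decide +kernel) (by decide +kernel) (by decide +kernel)]
    simp [zpow_two, sq]
  · rw [key 14 (-1) 2 (-1) (-1) (by decide +kernel) (by decide +kernel) (by decide +kernel) (by decide +kernel)]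
    simp [zpow_neg, mul_inv]; ring

theorem cartan_linear : ∀ r : Fin chevD4.nroots, ∀ i : Fin chevD4.rank, chevD4.cartan i.val r.val =
    rv r (I 0) * chevD4.cartan i.val 18 + rv r (I 1) * chevD4.cartan i.val 14 +
      rv r (I 2) * chevD4.cartan i.val 13 + rv r (I 3) * chevD4.cartan i.val 12 := by
  decide +kernel

/-- Torus elements are determined by the weights of the simple roots. -/
theorem torus_ext {c c' : Fin chevD4.rank → Kˣ} (h18 : wt c 18 = wt c' 18) (h14 : wt c 14 = wt c' 14)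
    (h13 : wt c 13 = wt c' 13) (h12 : wt c 12 = wt c' 12) :
    H52.torus chevD4 c = H52.torus chevD4 c' := by
  have hsplit : ∀ (d : Fin chevD4.rank → Kˣ) (r : Fin chevD4.nroots),
      (∏ i, d i ^ chevD4.cartan i.val r.val) =
        (∏ i, d i ^ chevD4.cartan i.val 18) ^ rv r (I 0) * (∏ i, d i ^ chevD4.cartan i.val 14) ^ rv r (I 1) *
          (∏ i, d i ^ chevD4.cartan i.val 13) ^ rv r (I 2) * (∏ i, d i ^ chevD4.cartan i.val 12) ^ rv r (I 3) := by
    intro d r
    simp only [← Finset.prod_zpow, ← Finset.prod_mul_distrib]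
    refine Finset.prod_congr rfl fun i _ => ?_
    rw [← zpow_mul, ← zpow_mul, ← zpow_mul, ← zpow_mul, ← zpow_add, ← zpow_add, ← zpow_add, cartan_linear r i]
    congr 1
    ring
  rw [H52.torus_apply, H52.torus_apply]
  refine H52.dgR_congr fun s hs => ?_
  have e := hsplit c ⟨s, hs⟩
  have e' := hsplit c' ⟨s, hs⟩
  simp only at e e'
  rw [e, e', Units.val_inj.1 h18, Units.val_inj.1 h14, Units.val_inj.1 h13, Units.val_inj.1 h12]

variable {q : ℕ} {f : K ≃+* K} (hf : Frob q f)
include hf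

theorem twist_fix {g : GL chevD4.Idx K} (hg : g ∈ twistedD4 K q) :
    (H53.twistAut H53.d4Sym H53.d4Sym_valid f ⟨g, H53.D4T.twisted_le q hg⟩ : GL chevD4.Idx K) = g :=
  congrArg Subtype.val (H53.D4T.fix (D4Min.qqq hf) hf.eq ⟨g, H53.D4T.twisted_le q hg⟩
    (Subgroup.mem_subgroupOf.2 hg))

theorem twist_j (S : Matrix.SpecialLinearGroup (Fin 2) K) :
    (H53.twistAut H53.d4Sym H53.d4Sym_valid f ⟨j K S, j_mem_group S⟩ : GL chevD4.Idx K) =
      j K (Matrix.SpecialLinearGroup.map f.toRingHom S) := by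
  let φ : Matrix.SpecialLinearGroup (Fin 2) K →* GL chevD4.Idx K :=
    ((chevD4.group K).subtype.comp
      (H53.twistAut H53.d4Sym H53.d4Sym_valid f).toMonoidHom).comp ((j K).codRestrict _ j_mem_group)
  refine DFunLike.congr_fun (hom_ext (φ := φ)
    (ψ := (j K).comp (Matrix.SpecialLinearGroup.map f.toRingHom)) (fun t => ?_) fun t => ?_) S
  · show (H53.twistAut H53.d4Sym H53.d4Sym_valid f ⟨j K (uS t), _⟩ : GL chevD4.Idx K) = j K _
    rw [H53.twistAut_rt H52.checkedD4 H53.d4Sym_valid f (r := 23) (t := t) (by decide) (j_u t),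
      show H53.d4Sym.qn 23 = 23 by decide +kernel, show H53.d4Sym.sn 23 = 1 by decide +kernel,
      Int.cast_one, one_mul, ← j_u]
    congr 1
    apply Subtype.ext
    ext i j
    fin_cases i <;> fin_cases j <;>
      first | exact (map_one f).symm | exact (map_zero f).symm | rfl
  · show (H53.twistAut H53.d4Sym H53.d4Sym_valid f ⟨j K (lS t), _⟩ : GL chevD4.Idx K) = j K _
    rw [H53.twistAut_rt H52.checkedD4 H53.d4Sym_valid f (r := 0) (t := t) (by decide) (j_l t),
      show H53.d4Sym.qn 0 = 0 by decide +kernel, show H53.d4Sym.sn 0 = 1 by decide +kernel,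
      Int.cast_one, one_mul, ← j_l]
    congr 1
    apply Subtype.ext
    ext i j
    fin_cases i <;> fin_cases j <;>
      first | exact (map_one f).symm | exact (map_zero f).symm | rfl

/-- Weights of fixed torus elements. -/
theorem wt_fixed {c : Fin chevD4.rank → Kˣ} (hc : H52.torus chevD4 c ∈ twistedD4 K q) :
    f (wt c 18) = wt c 13 ∧ f (wt c 13) = wt c 12 ∧ f (wt c 14) = wt c 14 := by
  have key : ∀ r s : ℕ, r < 24 → H53.d4Sym.qn r = s → H53.d4Sym.sn r = 1 → s < 24 →
      f (wt c r) = wt c s := by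
    intro r s hr h1 h2 hs
    set g : ↥(chevD4.group K) := ⟨_, H53.D4T.twisted_le q hc⟩
    set y : ↥(chevD4.group K) := ⟨_, H52.checkedD4.rt_mem_group r (1 : K)⟩
    have e : g * y * g⁻¹ = (⟨_, H52.checkedD4.rt_mem_group r (wt c r * 1)⟩ : ↥(chevD4.group K)) :=
      Subtype.ext (D4Min.torus_x c hr 1)
    have e2 := congrArg (fun z => (H53.twistAut H53.d4Sym H53.d4Sym_valid f z : GL chevD4.Idx K)) e
    simp only [map_mul, map_inv, Subgroup.coe_mul, Subgroup.coe_inv] at e2
    rw [twist_fix hf hc, H53.twistAut_rt H52.checkedD4 H53.d4Sym_valid f hr (g := y) (t := (1 : K)) rfl,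
      H53.twistAut_rt H52.checkedD4 H53.d4Sym_valid f hr (t := wt c r * 1) rfl, h1, h2, Int.cast_one,
      one_mul, one_mul, D4Min.torus_x c hs, map_one] at e2
    have e3 := H52.checkedD4.rt_injective (r := s) (show s < 24 from hs) e2
    simpa using e3.symm
  exact ⟨key 18 13 (by norm_num) (by decide +kernel) (by decide +kernel) (by norm_num),
    key 13 12 (by norm_num) (by decide +kernel) (by decide +kernel) (by norm_num),
    key 14 14 (by norm_num) (by decide +kernel) (by decide +kernel) (by norm_num)⟩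

/-- A fixed element `torus(c₀,1,c₂,c₃)` is a twisted torus element. -/
theorem outC_fixed {a b c : Kˣ} (h : H52.torus chevD4 (outC a b c) ∈ twistedD4 K q) :
    ∃ e : Kˣ, H52.torus chevD4 (outC a b c) = H52.torus chevD4 (tc f e 1) := by
  obtain ⟨h1, h2, -⟩ := wt_fixed hf h
  obtain ⟨w18, w13, w12, -⟩ := wt_simple a b c
  rw [w18, w13, map_pow] at h1
  rw [w13, w12, map_pow] at h2
  set b' : Kˣ := Units.map f.toMonoidHom a with hb'
  set c' : Kˣ := Units.map f.toMonoidHom b' with hc'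
  have ebc : ((b : K) / f a) ^ 2 = 1 ∧ ((c : K) / f (f a)) ^ 2 = 1 := by
    constructor
    · rw [div_pow, h1, div_self]
      exact pow_ne_zero _ b.ne_zero
    · rw [div_pow, ← map_pow f (f (a : K)) 2, h1, map_pow, h2, div_self]
      exact pow_ne_zero _ c.ne_zero
  set σ : K := (b : K) / f a * ((c : K) / f (f a))
  have hσ2 : σ ^ 2 = 1 := by rw [mul_pow, ebc.1, ebc.2, one_mul]
  have hσ : f σ = σ := by
    rcases sq_eq_one_iff.1 hσ2 with h' | h' <;> simp [h']
  have hσ0 : σ ≠ 0 := fun e => by rw [e] at hσ2; simp at hσ2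
  refine ⟨Units.mk0 σ hσ0 * a, ?_⟩
  have etc : tc f (Units.mk0 σ hσ0 * a) 1 = outC (Units.mk0 σ hσ0 * a)
      (Units.map f.toMonoidHom (Units.mk0 σ hσ0 * a))
      (Units.map f.toMonoidHom (Units.map f.toMonoidHom (Units.mk0 σ hσ0 * a))) := rfl
  rw [etc]
  obtain ⟨v18, v13, v12, v14⟩ := wt_simple (Units.mk0 σ hσ0 * a)
      (Units.map f.toMonoidHom (Units.mk0 σ hσ0 * a))
      (Units.map f.toMonoidHom (Units.map f.toMonoidHom (Units.mk0 σ hσ0 * a)))
  obtain ⟨-, -, -, w14⟩ := wt_simple a b c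
  have vb : ((Units.map f.toMonoidHom (Units.mk0 σ hσ0 * a) : Kˣ) : K) = σ * f a := by
    show f (σ * (a : K)) = _; rw [map_mul, hσ]
  have vc : ((Units.map f.toMonoidHom (Units.map f.toMonoidHom (Units.mk0 σ hσ0 * a)) : Kˣ) : K) =
      σ * f (f a) := by
    show f (f (σ * (a : K))) = _; rw [map_mul, hσ, map_mul, hσ]
  have va : ((Units.mk0 σ hσ0 * a : Kˣ) : K) = σ * a := rfl
  refine torus_ext ?_ ?_ ?_ ?_
  · rw [v18, w18, va, mul_pow, hσ2, one_mul]
  · rw [v14, w14, va, vb, vc]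
    congr 1
    have hfa : f (a : K) ≠ 0 := by simp
    have hffa : f (f (a : K)) ≠ 0 := by simp
    calc (a : K) * b * c = σ * ((a : K) * f a * f (f a)) := by
          simp only [σ]; field_simp
      _ = σ ^ 2 * σ * ((a : K) * f a * f (f a)) := by rw [hσ2, one_mul]
      _ = _ := by ring
  · rw [v13, w13, vb, mul_pow, hσ2, one_mul, h1]
  · rw [v12, w12, vc, mul_pow, hσ2, one_mul, ← map_pow f, h1, map_pow, h2]

end H35.D4Torus
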