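import Cfsg.Agent.H35.D4Torus.Levi

/-!
Centraliser of the split part of the torus, `q ≥ 3`.
-/

set_option autoImplicit false
set_option linter.unusedSectionVars false

open Cfsg.Lie
open scoped MatrixGroups

namespace H35.D4Torus

open D4Min (Frob tc wt)

variable {K : Type*} [Field K] [Fintype K]

/-- The exponent of a root at `tc f c 1`. -/
def ex (q : ℕ) (r : ℕ) : ℤ :=
  chevD4.cartan 0 r + (q : ℤ) * chevD4.cartan 2 r + (q : ℤ) ^ 2 * chevD4.cartan 3 r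

theorem cartan_bound : ∀ r < 24, ∀ i < 4, -2 ≤ chevD4.cartan i r ∧ chevD4.cartan i r ≤ 2 := by
  decide +kernel

theorem small_q : ∀ q ∈ ([3, 4, 5] : List ℕ), ∀ r < 24,
    ((ex q r % ((q : ℤ) ^ 3 - 1) = 0) → r = 0 ∨ r = 23) ∧
      ∀ s ∈ ([18, 13, 12] : List ℕ), (ex q r - ex q s) % ((q : ℤ) ^ 3 - 1) = 0 → r = s := by
  decide +kernel

theorem triples : ∀ r < 24, ((chevD4.cartan 0 r = 0 ∧ chevD4.cartan 2 r = 0 ∧ chevD4.cartan 3 r = 0) → r = 0 ∨ r = 23) ∧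
    ∀ s ∈ ([18, 13, 12] : List ℕ), (chevD4.cartan 0 r = chevD4.cartan 0 s ∧ chevD4.cartan 2 r = chevD4.cartan 2 s ∧
      chevD4.cartan 3 r = chevD4.cartan 3 s) → r = s := by
  decide +kernel

theorem digits {q : ℤ} (hq : 6 ≤ q) {a b c : ℤ} (ha : -4 ≤ a ∧ a ≤ 4) (hb : -4 ≤ b ∧ b ≤ 4)
    (hc : -4 ≤ c ∧ c ≤ 4) (h : q ^ 3 - 1 ∣ a + q * b + q ^ 2 * c) : a = 0 ∧ b = 0 ∧ c = 0 := by
  have e2 : 6 * q ^ 2 ≤ q ^ 3 := by nlinarith [sq_nonneg q]
  have e1 : 6 * q ≤ q ^ 2 := by nlinarith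
  have hq0 : 0 ≤ q := by linarith
  have b1 : q * b ≤ 4 * q := by nlinarith
  have b2 : -(4 * q) ≤ q * b := by nlinarith
  have c1 : q ^ 2 * c ≤ 4 * q ^ 2 := by nlinarith
  have c2 : -(4 * q ^ 2) ≤ q ^ 2 * c := by nlinarith
  have h0 : a + q * b + q ^ 2 * c = 0 := by
    obtain ⟨m, hm⟩ := h
    rw [hm]
    rcases lt_trichotomy m 0 with hm0 | hm0 | hm0
    · exfalso; nlinarith
    · rw [hm0, mul_zero]
    · exfalso; nlinarith
  have da : q ∣ a := ⟨-(b + q * c), by linear_combination h0⟩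
  obtain rfl : a = 0 := by
    by_contra hne
    have := Int.le_of_dvd (abs_pos.2 hne) ((dvd_abs _ _).2 da)
    have : |a| ≤ 4 := abs_le.2 ha
    linarith
  have h1 : b + q * c = 0 := by
    have : q * (b + q * c) = 0 := by linear_combination h0
    exact (mul_eq_zero.1 this).resolve_left (by omega)
  have db : q ∣ b := ⟨-c, by linear_combination h1⟩
  obtain rfl : b = 0 := by
    by_contra hne
    have := Int.le_of_dvd (abs_pos.2 hne) ((dvd_abs _ _).2 db)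
    have : |b| ≤ 4 := abs_le.2 hb
    linarith
  refine ⟨rfl, rfl, ?_⟩
  rcases mul_eq_zero.1 (show q * c = 0 by linarith) with h' | h'
  · omega
  · exact h'

theorem ex_facts {q : ℕ} (hq : 3 ≤ q) : ∀ r < 24,
    (((q : ℤ) ^ 3 - 1 ∣ ex q r) → r = 0 ∨ r = 23) ∧
      ∀ s ∈ ([18, 13, 12] : List ℕ), (q : ℤ) ^ 3 - 1 ∣ ex q r - ex q s → r = s := by
  intro r hr
  by_cases hs : q ≤ 5
  · have hmem : q ∈ ([3, 4, 5] : List ℕ) := by
      simp only [List.mem_cons, List.not_mem_nil, or_false]; omega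
    obtain ⟨h1, h2⟩ := small_q q hmem r hr
    exact ⟨fun h => h1 (Int.emod_eq_zero_of_dvd h), fun s hs' h => h2 s hs' (Int.emod_eq_zero_of_dvd h)⟩
  · have h6 : (6 : ℤ) ≤ q := by omega
    have b0 := cartan_bound r hr 0 (by norm_num)
    have b2 := cartan_bound r hr 2 (by norm_num)
    have b3 := cartan_bound r hr 3 (by norm_num)
    refine ⟨fun h => (triples r hr).1 (digits h6 (by omega) (by omega) (by omega) h), fun s hs' h => ?_⟩
    have hs24 : s < 24 := by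
      simp only [List.mem_cons, List.not_mem_nil, or_false] at hs'; omega
    have c0 := cartan_bound s hs24 0 (by norm_num)
    have c2 := cartan_bound s hs24 2 (by norm_num)
    have c3 := cartan_bound s hs24 3 (by norm_num)
    have he : ex q r - ex q s = (chevD4.cartan 0 r - chevD4.cartan 0 s) +
        (q : ℤ) * (chevD4.cartan 2 r - chevD4.cartan 2 s) + (q : ℤ) ^ 2 * (chevD4.cartan 3 r - chevD4.cartan 3 s) := by
      simp only [ex]; ring
    rw [he] at h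
    obtain ⟨e0, e2, e3⟩ := digits h6 (by omega) (by omega) (by omega) h
    exact (triples r hr).2 s hs' ⟨by omega, by omega, by omega⟩

variable {q : ℕ} {f : K ≃+* K} (hf : Frob q f)
include hf

theorem wt_tc (g : Kˣ) (r : ℕ) : wt (tc f g 1) r = ((g ^ ex q r : Kˣ) : K) := by
  have h1 : Units.map f.toMonoidHom g = g ^ q := Units.ext (by
    show f (g : K) = _; rw [hf.eq, Units.val_pow_eq_pow_val])
  show ((∏ i : Fin 4, tc f g 1 i ^ chevD4.cartan i.val r : Kˣ) : K) = _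
  congr 1
  rw [Fin.prod_univ_four]
  simp only [tc, ex, List.getD_cons_zero, List.getD_cons_succ, Fin.val_zero, Fin.val_one, Fin.val_two,
    show ((3 : Fin 4).val) = 3 from rfl, h1, map_pow, one_zpow, mul_one]
  rw [zpow_add, zpow_add, zpow_mul, zpow_natCast, zpow_mul, show ((q : ℤ) ^ 2) = ((q ^ 2 : ℕ) : ℤ) by push_cast; rfl,
    zpow_natCast, sq q, pow_mul]

theorem cent_levi (hq : 3 ≤ q) (hK : Fintype.card K = q ^ 3) {g : GL chevD4.Idx K}
    (hg : g ∈ twistedD4 K q) (h : ∀ c : Kˣ, Commute g (H52.torus chevD4 (tc f c 1))) :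
    ∃ (a b e : Kˣ) (A : GL (Fin 2) K), g = H52.torus chevD4 (outC a b e) * gl2 K A := by
  classical
  obtain ⟨g0, hg0⟩ := IsCyclic.exists_generator (α := Kˣ)
  have hord : orderOf g0 = q ^ 3 - 1 := by
    rw [orderOf_eq_card_of_forall_mem_zpowers hg0, Nat.card_eq_fintype_card, Fintype.card_units, hK]
  have h3 : 1 ≤ q ^ 3 := Nat.one_le_pow _ _ (by omega)
  have hdvd : ∀ n : ℤ, g0 ^ n = 1 → (q : ℤ) ^ 3 - 1 ∣ n := fun n hn => by
    have := orderOf_dvd_iff_zpow_eq_one.2 hn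
    rwa [hord, Nat.cast_sub h3, Nat.cast_pow, Nat.cast_one] at this
  have hne : ∀ r, 12 ≤ r → r < 24 → r ≠ 23 → wt (tc f g0 1) r ≠ 1 := by
    intro r h1 h2 h23 e
    rw [wt_tc hf] at e
    rcases (ex_facts hq r h2).1 (hdvd _ (Units.val_eq_one.1 e)) with h' | h'
    · omega
    · exact h23 h'
  obtain ⟨u, hu, t, ht, L, v, hv, rfl, hzu, hzv, hperm⟩ :=
    cent_parts (tc f g0 1) (H53.D4T.twisted_le q hg) (h g0).eq
  obtain ⟨a, rfl⟩ := pos_cent _ hne hu hzu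
  obtain ⟨b, rfl⟩ := pos_cent _ hne (ctx.uinv_le _ hv) hzv
  have hfix : ∀ s ∈ ([18, 13, 12] : List ℕ), ∀ (hs : s < 24), ctx.wperm L ⟨s, hs⟩ = ⟨s, hs⟩ := by
    intro s hs' hs
    have e := hperm ⟨s, hs⟩
    rw [wt_tc hf, wt_tc hf, Units.val_inj] at e
    have e' : g0 ^ (ex q (ctx.wperm L ⟨s, hs⟩).val - ex q s) = 1 := by rw [zpow_sub, e, mul_inv_cancel]
    exact Fin.ext ((ex_facts hq _ (ctx.wperm L ⟨s, hs⟩).isLt).2 s hs' (hdvd _ e'))
  have hn : ∃ t' ∈ chevD4.diagonalSubgroup K, ∃ S, H54.Ctx.nw chevD4 K L = t' * j K S := by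
    rcases classify_fix (hfix 18 (by simp) (by norm_num)) (hfix 13 (by simp) (by norm_num))
      (hfix 12 (by simp) (by norm_num)) with h1 | h1
    · exact ⟨_, H54.Ctx.nw_mem_diag ctx h1, 1, by rw [map_one, mul_one]⟩
    · obtain ⟨t', ht', S, hS⟩ := nw_w23 (K := K)
      have hd : H54.Ctx.nw chevD4 K L * (H54.Ctx.nw chevD4 K w23)⁻¹ ∈ chevD4.diagonalSubgroup K := by
        rw [← ctx.coe_nwG, ← ctx.coe_nwG, ← Subgroup.coe_inv, ← Subgroup.coe_mul, H53.mem_diag_iff ctx.hC ctx.W]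
        refine H53.RootGroupSys.mem_H_of_acts_one ctx.axioms ctx.sep
          (mul_mem (ctx.nwG_mem_N _) (inv_mem (ctx.nwG_mem_N _))) ?_
        have := H53.RootGroupSys.acts_mul (ctx.nwG_acts (F := K) L)
          (H53.RootGroupSys.acts_inv (ctx.nwG_acts (F := K) w23))
        rwa [h1, mul_inv_cancel] at this
      exact ⟨_, mul_mem hd ht', S, by rw [mul_assoc, ← hS, inv_mul_cancel_right]⟩
  obtain ⟨t', ht', S, hS⟩ := hn
  have htt := mul_mem ht ht'
  rw [H52.checkedD4.diagonalSubgroup_eq] at htt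
  obtain ⟨c, hc⟩ := htt
  obtain ⟨a', b', e', A, hA⟩ := torus_j c (dConj (c⁻¹ (I 1)) (uS a) * (S * uS b))
  refine ⟨a', b', e', A, ?_⟩
  rw [← hA, map_mul, ← j_conj_torus, map_inv, inv_inv, map_mul, j_u, j_u, hS, hc]
  group

end H35.D4Torus
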