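import Cfsg.Agent.H35.D4Torus.Rank

/-!
Centralisers of torus elements in D₄ and fixed points of the twist.
-/

set_option autoImplicit false
set_option linter.unusedSectionVars false

open Cfsg.Lie
open scoped MatrixGroups

namespace H35.D4Torus

open D4Min (Frob)

variable {K : Type*} [Field K]

local notation "x" => H52.rt chevD4

theorem nw_conj_diag (L : List (Fin chevD4.rank)) {z : GL chevD4.Idx K}
    (hz : z ∈ chevD4.diagonalSubgroup K) :
    H54.Ctx.nw chevD4 K L * z * (H54.Ctx.nw chevD4 K L)⁻¹ ∈ chevD4.diagonalSubgroup K := by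
  have hzG := ctx.diag_le_group hz
  have hH : (⟨z, hzG⟩ : ↥(chevD4.group K)) ∈ (H53.grpSys ctx.W K).H :=
    (H53.mem_diag_iff ctx.hC ctx.W _).1 hz
  set S := H53.grpSys ctx.W K
  set w := ctx.nwG (F := K) L
  have hwN : w ∈ S.N := ctx.nwG_mem_N L
  have h1 : w * ⟨z, hzG⟩ * w⁻¹ ∈ S.H := by
    refine H53.RootGroupSys.mem_H_of_acts_one ctx.axioms ctx.sep
      (mul_mem (mul_mem hwN (H53.RootGroupSys.H_le_N hH)) (inv_mem hwN)) ?_
    have := H53.RootGroupSys.acts_mul (H53.RootGroupSys.acts_mul (ctx.nwG_acts (F := K) L)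
      (H53.RootGroupSys.acts_H ctx.axioms hH)) (H53.RootGroupSys.acts_inv (ctx.nwG_acts (F := K) L))
    rwa [mul_one, mul_inv_cancel] at this
  have h2 := (H53.mem_diag_iff ctx.hC ctx.W _).2 h1
  simpa [w, H54.Ctx.coe_nwG] using h2

theorem nw_conj_all (L : List (Fin chevD4.rank)) (r : Fin chevD4.nroots) :
    ∃ e : K, e ≠ 0 ∧ ∀ t : K, H54.Ctx.nw chevD4 K L * x r.val t * (H54.Ctx.nw chevD4 K L)⁻¹ =
      x (ctx.wperm L r).val (e * t) := by
  induction L with
  | nil => exact ⟨1, one_ne_zero, fun t => by simp [H54.Ctx.nw_nil, H54.Ctx.wperm_nil]⟩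
  | cons i L ih =>
    obtain ⟨e, he, h⟩ := ih
    refine ⟨(ctx.T.eps i.val (ctx.wperm L r).val : K) * e, mul_ne_zero ?_ he, fun t => ?_⟩
    · rcases H52.Checked.eps_eq_or (T := ctx.T) i.val (ctx.wperm L r).val with h1 | h1 <;> simp [h1]
    · rw [H54.Ctx.nw_cons, show H53.nGL chevD4 (chevD4.simple i.val) (1 : K) * H54.Ctx.nw chevD4 K L *
          x r.val t * (H53.nGL chevD4 (chevD4.simple i.val) (1 : K) * H54.Ctx.nw chevD4 K L)⁻¹ =
          H53.nGL chevD4 (chevD4.simple i.val) (1 : K) * (H54.Ctx.nw chevD4 K L * x r.val t *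
          (H54.Ctx.nw chevD4 K L)⁻¹) * (H53.nGL chevD4 (chevD4.simple i.val) (1 : K))⁻¹ by group, h,
        mul_inv_eq_iff_eq_mul, H54.Ctx.wperm_cons, Equiv.Perm.mul_apply, H54.Ctx.sigma_val]
      apply Units.ext
      simp only [Units.val_mul, ctx.hC.coe_rt, H53.coe_nGL ctx.hC, mul_assoc]
      exact ctx.hC.sig_mul_x i.isLt (ctx.wperm L r).isLt _

theorem upProd_conj (c : Fin chevD4.rank → Kˣ) (t : ℕ → K) : ∀ n k, n + k = 24 →
    H52.torus chevD4 c * H52.upProd chevD4 k t * (H52.torus chevD4 c)⁻¹ =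
      H52.upProd chevD4 k fun r => D4Min.wt c r * t r := by
  intro n
  induction n with
  | zero =>
    intro k hk
    have h : chevD4.nroots - k = 0 := by show 24 - k = 0; omega
    simp [H52.upProd, H52.wordRt, h]
  | succ n ih =>
    intro k hk
    rw [H52.Checked.upProd_step (k := k) (by show k < 24; omega),
      H52.Checked.upProd_step (k := k) (by show k < 24; omega), ← ih (k + 1) (by omega),
      ← D4Min.torus_x c (show k < 24 by omega)]
    group

theorem upProd_support (t : ℕ → K) {l : ℕ} (h : ∀ r, 12 ≤ r → r < 24 → r ≠ 23 → t r = 0) (hl : l = 23) :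
    ∀ n k, n + k = 23 → 12 ≤ k → H52.upProd chevD4 k t = x l (t l) := by
  subst hl
  intro n
  induction n with
  | zero =>
    intro k hk _
    obtain rfl : k = 23 := by omega
    rw [H52.Checked.upProd_step (k := 23) (by decide)]
    simp [H52.upProd, H52.wordRt, show chevD4.nroots = 24 by decide]
  | succ n ih =>
    intro k hk h12
    rw [H52.Checked.upProd_step (k := k) (by show k < 24; omega), h k h12 (by omega) (by omega),
      D4Min.x_zero, one_mul, ih (k + 1) (by omega) (by omega)]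

/-- The centraliser of a torus element in `U`. -/
theorem pos_cent (c : Fin chevD4.rank → Kˣ) (hc : ∀ r, 12 ≤ r → r < 24 → r ≠ 23 → D4Min.wt c r ≠ 1)
    {u : GL chevD4.Idx K} (hu : u ∈ chevD4.posUnipotent K)
    (h : H52.torus chevD4 c * u * (H52.torus chevD4 c)⁻¹ = u) : ∃ a, u = x 23 a := by
  rw [H52.checkedD4.posUnipotent_eq, show chevD4.nroots / 2 = 12 from rfl] at hu
  obtain ⟨t, rfl⟩ := H52.checkedD4.exists_upProd (k := 12) le_rfl hu
  rw [upProd_conj c t 12 12 rfl] at h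
  have h0 := H52.checkedD4.upProd_injective (k := 12) le_rfl h
  refine ⟨t 23, upProd_support t (fun r h1 h2 h3 => ?_) rfl 11 12 rfl le_rfl⟩
  have e := h0 r h1 h2
  have e' : (D4Min.wt c r - 1) * t r = 0 := by rw [sub_mul, e, one_mul, sub_self]
  exact (mul_eq_zero.1 e').resolve_left (sub_ne_zero.2 (hc r h1 h2 h3))

/-- The parts of an element centralising a torus element. -/
theorem cent_parts (c : Fin chevD4.rank → Kˣ) {g : GL chevD4.Idx K} (hg : g ∈ chevD4.group K)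
    (h : g * H52.torus chevD4 c = H52.torus chevD4 c * g) :
    ∃ u ∈ chevD4.posUnipotent K, ∃ t ∈ chevD4.diagonalSubgroup K, ∃ L,
      ∃ v ∈ H54.Ctx.uinv chevD4 K (ctx.wperm L), g = u * t * H54.Ctx.nw chevD4 K L * v ∧
        H52.torus chevD4 c * u * (H52.torus chevD4 c)⁻¹ = u ∧
        H52.torus chevD4 c * v * (H52.torus chevD4 c)⁻¹ = v ∧
        ∀ r : Fin chevD4.nroots, D4Min.wt c (ctx.wperm L r).val = D4Min.wt c r.val := by
  obtain ⟨u, hu, t, ht, L, v, hv, rfl⟩ := ctx.exists_nf hg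
  set z := H52.torus chevD4 c with hzdef
  set n := H54.Ctx.nw chevD4 K L
  have hz : z ∈ chevD4.diagonalSubgroup K := by
    rw [H52.checkedD4.diagonalSubgroup_eq]; exact ⟨c, rfl⟩
  have hd : z * n * z⁻¹ * n⁻¹ ∈ chevD4.diagonalSubgroup K := by
    rw [show z * n * z⁻¹ * n⁻¹ = z * (n * z⁻¹ * n⁻¹) by group]
    exact mul_mem hz (nw_conj_diag L (inv_mem hz))
  have hu' : z * u * z⁻¹ ∈ chevD4.posUnipotent K := H52.checkedD4.diag_conj_pos hz hu
  have hv' : z * v * z⁻¹ ∈ H54.Ctx.uinv chevD4 K (ctx.wperm L) := by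
    have hle : H54.Ctx.uinv chevD4 K (ctx.wperm L) ≤
        (H54.Ctx.uinv chevD4 K (ctx.wperm L)).comap (MulAut.conj z).toMonoidHom := by
      refine (Subgroup.closure_le _).2 ?_
      rintro _ ⟨r, a, h1, h2, rfl⟩
      show z * x r.val a * z⁻¹ ∈ H54.Ctx.uinv chevD4 K (ctx.wperm L)
      rw [hzdef, D4Min.torus_x c r.isLt]
      exact Subgroup.subset_closure ⟨r, _, h1, h2, rfl⟩
    exact hle hv
  have ht' : z * t * z⁻¹ = t := by
    rw [H52.checkedD4.diagonalSubgroup_eq] at ht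
    obtain ⟨c', rfl⟩ := ht
    rw [hzdef, ← map_mul, mul_comm, map_mul, mul_inv_cancel_right]
  have he : u * t * n * v = (z * u * z⁻¹) * (t * (z * n * z⁻¹ * n⁻¹)) * n * (z * v * z⁻¹) := by
    calc u * t * n * v = z * (u * t * n * v) * z⁻¹ := by rw [← h, mul_inv_cancel_right]
      _ = (z * u * z⁻¹) * (z * t * z⁻¹) * (z * n * z⁻¹) * (z * v * z⁻¹) := by group
      _ = _ := by rw [ht']; group
  obtain ⟨e1, e2, e3⟩ := (ctx.nf_unique hu hu' ht (mul_mem ht hd) hv hv' he).2 rfl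
  refine ⟨u, hu, t, ht, L, v, hv, rfl, e1.symm, e3.symm, fun r => ?_⟩
  have hzn : z * n * z⁻¹ = n := mul_inv_eq_one.1 (mul_left_cancel ((mul_one t).trans e2)).symm
  obtain ⟨e, he', hn⟩ := nw_conj_all (K := K) L r
  have h1 : z * (n * x r.val 1 * n⁻¹) * z⁻¹ = n * (z * x r.val 1 * z⁻¹) * n⁻¹ := by
    calc z * (n * x r.val 1 * n⁻¹) * z⁻¹ = (z * n * z⁻¹) * (z * x r.val 1 * z⁻¹) * (z * n * z⁻¹)⁻¹ := by group
      _ = _ := by rw [hzn]
  rw [hn, hzdef, D4Min.torus_x c (ctx.wperm L r).isLt, D4Min.torus_x c r.isLt, hn] at h1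
  have h2 := H52.checkedD4.rt_injective (ctx.wperm L r).isLt h1
  rw [mul_one, mul_one, mul_comm] at h2
  exact mul_left_cancel₀ he' h2

end H35.D4Torus
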