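import Cfsg.Agent.H35.D4Torus.Fix

/-!
The twisted Levi subgroup `T · ⟨X₂₃, X₀⟩` as an image of `Kˣ × GL₂`.
-/

set_option autoImplicit false
set_option linter.unusedSectionVars false

open Cfsg.Lie
open scoped MatrixGroups

namespace H35.D4Torus

open D4Min (Frob tc wt)

variable {K : Type*} [Field K]

local notation "x" => H52.rt chevD4

theorem torus_split (c : Fin chevD4.rank → Kˣ) :
    H52.torus chevD4 c = H52.torus chevD4 (outC (c (I 0)) (c (I 2)) (c (I 3))) * nu K (c (I 1)) := by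
  show _ = _ * H52.torus chevD4 (nuC (c (I 1)))
  rw [← map_mul]
  congr 1
  funext i
  fin_cases i <;> simp [outC, nuC, I]

theorem out_comm_j (a b c : Kˣ) (S : Matrix.SpecialLinearGroup (Fin 2) K) :
    Commute (H52.torus chevD4 (outC a b c)) (j K S) := by
  have hw : ∀ r, chevD4.cartan 0 r = 0 → chevD4.cartan 2 r = 0 → chevD4.cartan 3 r = 0 →
      wt (outC a b c) r = 1 := by
    intro r h0 h2 h3
    show ((∏ i : Fin 4, outC a b c i ^ chevD4.cartan i.val r : Kˣ) : K) = _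
    rw [Fin.prod_univ_four]
    simp [outC, h0, h2, h3]
  have h := DFunLike.congr_fun (hom_ext
    (φ := (MulAut.conj (H52.torus chevD4 (outC a b c))).toMonoidHom.comp (j K)) (ψ := j K)
    (fun t => by
      simp only [MonoidHom.comp_apply, MulEquiv.coe_toMonoidHom, MulAut.conj_apply, j_u]
      rw [D4Min.torus_x _ (by norm_num),
        hw 23 (by decide +kernel) (by decide +kernel) (by decide +kernel), one_mul])
    fun t => by
      simp only [MonoidHom.comp_apply, MulEquiv.coe_toMonoidHom, MulAut.conj_apply, j_l]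
      rw [D4Min.torus_x _ (by norm_num),
        hw 0 (by decide +kernel) (by decide +kernel) (by decide +kernel), one_mul]) S
  simp only [MonoidHom.comp_apply, MulEquiv.coe_toMonoidHom, MulAut.conj_apply] at h
  exact mul_inv_eq_iff_eq_mul.1 h

theorem out_comm_gl2 (a b c : Kˣ) (A : GL (Fin 2) K) :
    Commute (H52.torus chevD4 (outC a b c)) (gl2 K A) := by
  refine (out_comm_j a b c _).mul_right ?_
  exact (Commute.all _ _).map (H52.torus chevD4)

/-- `diag(d, 1)`. -/
def dGL (d : Kˣ) : GL (Fin 2) K :=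
  ⟨!![(d : K), 0; 0, 1], !![(d : K)⁻¹, 0; 0, 1],
    by ext i j; fin_cases i <;> fin_cases j <;> simp,
    by ext i j; fin_cases i <;> fin_cases j <;> simp⟩

theorem gl2_dGL (d : Kˣ) : gl2 K (dGL d) = nu K d := by
  have hd : (dGL d).1.det = (d : K) := by simp [dGL, Matrix.det_fin_two_of]
  rw [gl2_apply, show Matrix.GeneralLinearGroup.det (dGL d) = d from Units.ext hd,
    show slPart (dGL d) = 1 from Subtype.ext ?_, map_one, one_mul]
  show !![(dGL d).1 0 0 * (dGL d).1.det⁻¹, (dGL d).1 0 1; (dGL d).1 1 0 * (dGL d).1.det⁻¹, (dGL d).1 1 1] = 1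
  rw [hd]
  ext i j; fin_cases i <;> fin_cases j <;> simp [dGL]

/-- Scalar matrices. -/
def sGL (a : Kˣ) : GL (Fin 2) K :=
  ⟨!![(a : K), 0; 0, (a : K)], !![(a : K)⁻¹, 0; 0, (a : K)⁻¹],
    by ext i j; fin_cases i <;> fin_cases j <;> simp,
    by ext i j; fin_cases i <;> fin_cases j <;> simp⟩

theorem gl2_sGL (a : Kˣ) : gl2 K (sGL a) = H52.torus chevD4 (outC a⁻¹ a⁻¹ a⁻¹) := by
  have hd : (sGL a).1.det = ((a ^ 2 : Kˣ) : K) := by simp [sGL, Matrix.det_fin_two_of, sq]
  rw [gl2_apply, show Matrix.GeneralLinearGroup.det (sGL a) = a ^ 2 from Units.ext hd,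
    show slPart (sGL a) = ⟨!![((a⁻¹ : Kˣ) : K), 0; 0, ((a⁻¹ : Kˣ) : K)⁻¹],
      by simp [Matrix.det_fin_two_of]⟩ from Subtype.ext ?_, j_diag,
    H52.checkedD4.hElt_eq_torus (by decide)]
  · show H52.torus chevD4 _ * H52.torus chevD4 (nuC (a ^ 2)) = _
    rw [← map_mul]
    congr 1
    funext i
    fin_cases i <;>
      simp [outC, nuC, show H52.crt chevD4 23 0 = 1 by decide +kernel, show H52.crt chevD4 23 1 = 2 by decide +kernel,
        show H52.crt chevD4 23 2 = 1 by decide +kernel, show H52.crt chevD4 23 3 = 1 by decide +kernel, sq]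
  · show !![(sGL a).1 0 0 * (sGL a).1.det⁻¹, (sGL a).1 0 1; (sGL a).1 1 0 * (sGL a).1.det⁻¹, (sGL a).1 1 1] = _
    rw [hd]
    ext i j
    fin_cases i <;> fin_cases j <;> simp [sGL, sq]

/-- `torus · j` as `out · gl2`. -/
theorem torus_j (c : Fin chevD4.rank → Kˣ) (S : Matrix.SpecialLinearGroup (Fin 2) K) :
    ∃ (a b e : Kˣ) (A : GL (Fin 2) K),
      H52.torus chevD4 c * j K S = H52.torus chevD4 (outC a b e) * gl2 K A :=
  ⟨c (I 0), c (I 2), c (I 3), dGL (c (I 1)) * Matrix.SpecialLinearGroup.toGL S, by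
    rw [map_mul, gl2_dGL, gl2_sl, ← mul_assoc, ← torus_split]⟩

theorem j_conj_torus (c : Fin chevD4.rank → Kˣ) (S : Matrix.SpecialLinearGroup (Fin 2) K) :
    H52.torus chevD4 c * j K S * (H52.torus chevD4 c)⁻¹ = j K (dConj (c (I 1)) S) := by
  rw [torus_split c, mul_inv_rev,
    show ∀ o n s : GL chevD4.Idx K, o * n * s * (n⁻¹ * o⁻¹) = o * (n * s * n⁻¹) * o⁻¹ from
      fun o n s => by group, nu_conj_j, (out_comm_j _ _ _ _).eq, mul_inv_cancel_right]

/-- A word with the reflection of the highest root lies in `T · j(SL₂)`. -/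
theorem nw_w23 : ∃ t ∈ chevD4.diagonalSubgroup K, ∃ S, H54.Ctx.nw chevD4 K w23 = t * j K S := by
  let L1 : List (Fin chevD4.rank) := ([2, 0, 1, 3, 1, 2, 0] : List (Fin 4)).map I
  obtain ⟨e, -, he⟩ := nw_conj_all (K := K) L1 ⟨14, by decide⟩
  obtain ⟨e', -, he'⟩ := nw_conj_all (K := K) L1 ⟨9, by decide⟩
  rw [show (ctx.wperm L1 ⟨14, by decide⟩).val = 23 by decide +kernel] at he
  rw [show (ctx.wperm L1 ⟨9, by decide⟩).val = 0 by decide +kernel] at he'
  have hw : w23 = ([1, 2, 0, 1, 3, 1, 2, 0, 1] : List (Fin 4)).map I := rfl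
  have hperm : ctx.wperm (L1 ++ [I 1] ++ L1.reverse) = ctx.wperm w23 :=
    wperm_ext (fun k => Fin.ext (by revert k; decide +kernel))
  have hone : ctx.wperm (L1 ++ L1.reverse) = 1 := by
    rw [H54.Ctx.wperm_append, H54.Ctx.wperm_reverse, mul_inv_cancel]
  have hd2 := H54.Ctx.nw_mem_diag ctx (F := K) hone
  have hd1 : H54.Ctx.nw chevD4 K w23 * (H54.Ctx.nw chevD4 K (L1 ++ [I 1] ++ L1.reverse))⁻¹ ∈
      chevD4.diagonalSubgroup K := by
    rw [← ctx.coe_nwG, ← ctx.coe_nwG, ← Subgroup.coe_inv, ← Subgroup.coe_mul, H53.mem_diag_iff ctx.hC ctx.W]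
    refine H53.RootGroupSys.mem_H_of_acts_one ctx.axioms ctx.sep
      (mul_mem (ctx.nwG_mem_N _) (inv_mem (ctx.nwG_mem_N _))) ?_
    have := H53.RootGroupSys.acts_mul (ctx.nwG_acts (F := K) w23)
      (H53.RootGroupSys.acts_inv (ctx.nwG_acts (F := K) (L1 ++ [I 1] ++ L1.reverse)))
    rwa [hperm, mul_inv_cancel] at this
  set n1 := H54.Ctx.nw chevD4 K L1
  set S : Matrix.SpecialLinearGroup (Fin 2) K := uS (e * 1) * lS (e' * -1⁻¹) * uS (e * 1)
  have hn14 : H53.nGL chevD4 (chevD4.simple (I 1).val) (1 : K) =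
      x 14 1 * x 9 (-1⁻¹) * x 14 1 := by
    rw [show chevD4.simple (I 1).val = 14 by decide +kernel]
    show x 14 1 * x (chevD4.neg 14) (-1⁻¹) * x 14 1 = _
    rw [show chevD4.neg 14 = 9 by decide +kernel]
  have hmid : H54.Ctx.nw chevD4 K (L1 ++ [I 1] ++ L1.reverse) = j K S * H54.Ctx.nw chevD4 K (L1 ++ L1.reverse) := by
    have eS : n1 * H53.nGL chevD4 (chevD4.simple (I 1).val) (1 : K) * n1⁻¹ = j K S := by
      rw [hn14, show ∀ p r : GL chevD4.Idx K, n1 * (p * r * p) * n1⁻¹ =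
        (n1 * p * n1⁻¹) * (n1 * r * n1⁻¹) * (n1 * p * n1⁻¹) from fun p r => by group, he, he',
        map_mul, map_mul, j_u, j_l]
    rw [← eS]
    simp only [H54.Ctx.nw, List.map_append, List.prod_append, List.map_cons, List.map_nil, List.prod_cons,
      List.prod_nil, mul_one, n1]
    group
  set d1 := H54.Ctx.nw chevD4 K w23 * (H54.Ctx.nw chevD4 K (L1 ++ [I 1] ++ L1.reverse))⁻¹ with hd1e
  set d2 := H54.Ctx.nw chevD4 K (L1 ++ L1.reverse)
  rw [H52.checkedD4.diagonalSubgroup_eq] at hd1 hd2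
  obtain ⟨c1, hc1⟩ := hd1
  obtain ⟨c2, hc2⟩ := hd2
  refine ⟨d1 * d2, ?_, dConj (c2 (I 1))⁻¹ S, ?_⟩
  · rw [← hc1, ← hc2, ← map_mul, H52.checkedD4.diagonalSubgroup_eq]
    exact ⟨_, rfl⟩
  · have e1 : H54.Ctx.nw chevD4 K w23 = d1 * j K S * d2 := by
      rw [mul_assoc, ← hmid, hd1e, inv_mul_cancel_right]
    have e2 := j_conj_torus c2⁻¹ S
    rw [map_inv, inv_inv, hc2] at e2
    rw [e1, show dConj (c2 (I 1))⁻¹ S = dConj ((c2⁻¹) (I 1)) S from rfl, ← e2]
    group

variable {q : ℕ} {f : K ≃+* K} (hf : Frob q f)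
include hf

theorem x0_mem {t : K} (ht : f t = t) : x 0 t ∈ twistedD4 K q := by
  have h9 : ∀ s : K, f s = s → x 9 s ∈ twistedD4 K q := fun s hs =>
    H53.D4T.single_mem (by decide) (by rw [← hf.eq, hs])
  have h1 : ∀ s : K, f s = s → x 1 s ∈ twistedD4 K q := by
    intro s hs
    have h := D4Min.na_conj (K := K) (r := 9) (s := 1) (-1) (by norm_num) (by decide +kernel)
      (by decide +kernel) (by decide +kernel) (-s)
    rw [show ((-1 : ℤ) : K) * -s = s by push_cast; ring] at h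
    rw [← h]
    exact mul_mem (mul_mem (D4Min.na_mem hf) (h9 _ (by rw [map_neg, hs]))) (inv_mem (D4Min.na_mem hf))
  have h := D4Min.nb_conj (K := K) (r := 1) (s := 0) 1 (by norm_num) (by decide +kernel) t
  rw [Int.cast_one, one_mul] at h
  rw [← h]
  exact mul_mem (mul_mem (D4Min.nb_mem hf) (h1 t ht)) (inv_mem (D4Min.nb_mem hf))

theorem j_mem {S : Matrix.SpecialLinearGroup (Fin 2) K} (hS : ∀ i j, f (S.1 i j) = S.1 i j) :
    j K S ∈ twistedD4 K q := by
  have gen : ∀ {T : Matrix.SpecialLinearGroup (Fin 2) K}, (∀ i j, f (T.1 i j) = T.1 i j) → T.1 1 0 ≠ 0 →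
      j K T ∈ twistedD4 K q := by
    intro T hT h
    rw [sl2_decomp h, map_mul, map_mul, j_u, j_l, j_u]
    exact mul_mem (mul_mem (D4Min.e_mem hf (by rw [map_div₀, map_sub, map_one, hT, hT]))
      (x0_mem hf (hT _ _))) (D4Min.e_mem hf (by rw [map_div₀, map_sub, map_one, hT, hT]))
  by_cases h : S.1 1 0 = 0
  · have e : S = (S * lS 1) * (lS 1)⁻¹ := (mul_inv_cancel_right S (lS 1)).symm
    rw [e, map_mul, map_inv, j_l]
    refine mul_mem (gen (fun i j => ?_) ?_) (inv_mem (x0_mem hf (map_one f)))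
    · show f ((S.1 * !![(1 : K), 0; 1, 1] : Matrix (Fin 2) (Fin 2) K) i j) =
        (S.1 * !![(1 : K), 0; 1, 1] : Matrix (Fin 2) (Fin 2) K) i j
      simp only [Matrix.mul_apply, Fin.sum_univ_two, map_add, map_mul, hS]
      fin_cases j <;> simp
    · have hd := S.2
      rw [Matrix.det_fin_two, h, mul_zero, sub_zero] at hd
      show (S.1 * !![1, 0; 1, 1] : Matrix (Fin 2) (Fin 2) K) 1 0 ≠ 0
      simp [Matrix.mul_apply, Fin.sum_univ_two, h]
      exact right_ne_zero_of_mul_eq_one hd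
  · exact gen hS h

theorem tc_one (d : Kˣ) : tc f 1 d = nuC d := by
  funext i
  fin_cases i <;> simp [tc, nuC]

theorem gl2_mem {A : GL (Fin 2) K} (hA : ∀ i j, f (A.1 i j) = A.1 i j) : gl2 K A ∈ twistedD4 K q := by
  have hd : f A.1.det = A.1.det := by
    rw [Matrix.det_fin_two]; simp only [map_sub, map_mul, hA]
  rw [gl2_apply]
  refine mul_mem (j_mem hf fun i j => ?_) ?_
  · show f (!![A.1 0 0 * A.1.det⁻¹, A.1 0 1; A.1 1 0 * A.1.det⁻¹, A.1 1 1] i j) = _
    fin_cases i <;> fin_cases j <;> simp [slPart, map_inv₀, hd, hA]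
  · show H52.torus chevD4 (nuC _) ∈ _
    rw [← tc_one hf]
    exact D4Min.torus_mem hf 1 _ hd

/-- Fixed elements of `T · j(SL₂)`. -/
theorem fixed_levi {a b e : Kˣ} {A : GL (Fin 2) K}
    (h : H52.torus chevD4 (outC a b e) * gl2 K A ∈ twistedD4 K q) :
    ∃ (c : Kˣ) (A0 : GL (Fin 2) K), (∀ i j, f (A0.1 i j) = A0.1 i j) ∧
      H52.torus chevD4 (outC a b e) * gl2 K A = H52.torus chevD4 (tc f c 1) * gl2 K A0 := by
  set o := H52.torus chevD4 (outC a b e)
  set F := Matrix.GeneralLinearGroup.map (n := Fin 2) f.toRingHom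
  set g := o * gl2 K A with hg
  have key : ∀ S : Matrix.SpecialLinearGroup (Fin 2) K, Matrix.SpecialLinearGroup.map f.toRingHom S = S →
      Commute (A⁻¹ * F A) (Matrix.SpecialLinearGroup.toGL S) := by
    intro S hS
    set T : Matrix.SpecialLinearGroup (Fin 2) K :=
      ⟨(A * Matrix.SpecialLinearGroup.toGL S * A⁻¹).1, by
        rw [Units.val_mul, Units.val_mul, Matrix.det_mul, Matrix.det_mul]
        show A.1.det * S.1.det * (A⁻¹).1.det = 1
        rw [S.2, mul_one, ← Matrix.det_mul, ← Units.val_mul, mul_inv_cancel, Units.val_one, Matrix.det_one]⟩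
    have hT : Matrix.SpecialLinearGroup.toGL T = A * Matrix.SpecialLinearGroup.toGL S * A⁻¹ := Units.ext rfl
    have e1 : g * j K S * g⁻¹ = j K T := by
      rw [← gl2_sl, ← gl2_sl, hT, map_mul, map_mul, map_inv, hg,
        show ∀ p r : GL chevD4.Idx K, o * p * r * (o * p)⁻¹ = o * (p * r * p⁻¹) * o⁻¹ from
          fun p r => by group, ← map_inv, ← map_mul, ← map_mul, (out_comm_gl2 _ _ _ _).eq, mul_inv_cancel_right]
    have e2 := congrArg (fun z => (H53.twistAut H53.d4Sym H53.d4Sym_valid f z : GL chevD4.Idx K))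
      (show (⟨g, H53.D4T.twisted_le q h⟩ * ⟨j K S, j_mem_group S⟩ * (⟨g, H53.D4T.twisted_le q h⟩)⁻¹ :
        ↥(chevD4.group K)) = ⟨j K T, j_mem_group T⟩ from Subtype.ext e1)
    simp only [map_mul, map_inv, Subgroup.coe_mul, Subgroup.coe_inv] at e2
    rw [twist_fix hf h, twist_j hf, twist_j hf, hS, e1] at e2
    have e3 : F (Matrix.SpecialLinearGroup.toGL T) = Matrix.SpecialLinearGroup.toGL T := by
      have e4 := congrArg Subtype.val (j_injective e2)
      exact Units.ext e4.symm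
    have e5 : F (Matrix.SpecialLinearGroup.toGL S) = Matrix.SpecialLinearGroup.toGL S :=
      Units.ext (congrArg Subtype.val hS)
    rw [hT, map_mul, map_mul, map_inv, e5, mul_inv_eq_iff_eq_mul] at e3
    show _ = _
    rw [mul_assoc, e3]
    group
  have mapT : ∀ M : Matrix.SpecialLinearGroup (Fin 2) K, (∀ i j, f (M.1 i j) = M.1 i j) →
      Matrix.SpecialLinearGroup.map f.toRingHom M = M := fun M hM =>
    Subtype.ext (Matrix.ext fun i j => hM i j)
  have hu : ∀ i j, f ((uS (1 : K)).1 i j) = (uS (1 : K)).1 i j := fun i j => by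
    fin_cases i <;> fin_cases j <;> simp [uS]
  have hl : ∀ i j, f ((lS (1 : K)).1 i j) = (lS (1 : K)).1 i j := fun i j => by
    fin_cases i <;> fin_cases j <;> simp [lS]
  have cu := congrArg (fun z : GL (Fin 2) K => z.1) (key _ (mapT _ hu)).eq
  have cl := congrArg (fun z : GL (Fin 2) K => z.1) (key _ (mapT _ hl)).eq
  set B := A⁻¹ * F A with hB
  simp only [Units.val_mul] at cu cl
  change B.1 * !![1, 1; 0, 1] = !![1, 1; 0, 1] * B.1 at cu
  change B.1 * !![1, 0; 1, 1] = !![1, 0; 1, 1] * B.1 at cl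
  have u00 := congrFun (congrFun cu 0) 0
  have u01 := congrFun (congrFun cu 0) 1
  have l00 := congrFun (congrFun cl 0) 0
  simp [Matrix.mul_apply, Fin.sum_univ_two] at u00 u01 l00
  have hdiag : B.1 0 0 = B.1 1 1 := by linear_combination u01
  have hFA : ∀ i k, f (A.1 i k) = A.1 i k * B.1 0 0 := by
    have e1 : (A * B).1 = (F A).1 := by rw [hB, mul_inv_cancel_left]
    intro i k
    have e2 : (A.1 * B.1) i k = f (A.1 i k) := congrFun (congrFun e1 i) k
    rw [← e2, Matrix.mul_apply, Fin.sum_univ_two]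
    fin_cases k <;> simp [u00, l00, hdiag]
  have hd : A.1.det ≠ 0 := ((Matrix.isUnit_iff_isUnit_det A.1).1 A.isUnit).ne_zero
  obtain ⟨i0, hi0⟩ : ∃ i, A.1 i 0 ≠ 0 := by
    by_contra hc
    push Not at hc
    exact hd (by rw [Matrix.det_fin_two, hc 0, hc 1]; ring)
  set a' := Units.mk0 _ hi0
  set A0 := (sGL a')⁻¹ * A
  have hA0e : ∀ i k, A0.1 i k = (A.1 i0 0)⁻¹ * A.1 i k := by
    intro i k
    show (!![(a' : K)⁻¹, 0; 0, (a' : K)⁻¹] * A.1) i k = _
    fin_cases i <;> simp [Matrix.mul_apply, Fin.sum_univ_two, a']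
  have hA0 : ∀ i k, f (A0.1 i k) = A0.1 i k := by
    intro i k
    have hB0 : B.1 0 0 ≠ 0 := fun h0 => hi0 (by simpa [h0] using hFA i0 0)
    rw [hA0e, map_mul, map_inv₀, hFA, hFA]
    field_simp
  have eg : g = H52.torus chevD4 (outC (a * a'⁻¹) (b * a'⁻¹) (e * a'⁻¹)) * gl2 K A0 := by
    have eA : A = sGL a' * A0 := (mul_inv_cancel_left _ _).symm
    rw [hg, eA, map_mul, gl2_sGL, ← mul_assoc, ← map_mul]
    congr 2
    funext i
    fin_cases i <;> simp [outC]
  have ho : H52.torus chevD4 (outC (a * a'⁻¹) (b * a'⁻¹) (e * a'⁻¹)) ∈ twistedD4 K q := by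
    have := mul_mem h (inv_mem (gl2_mem hf hA0))
    rwa [eg, mul_inv_cancel_right] at this
  obtain ⟨c, hc⟩ := outC_fixed hf ho
  exact ⟨c, A0, hA0, by rw [← hc]; exact eg⟩

/-- Uniqueness up to scalars. -/
theorem levi_inj {c : Kˣ} {A : GL (Fin 2) K} (hA : ∀ i j, f (A.1 i j) = A.1 i j)
    (h : H52.torus chevD4 (tc f c 1) * gl2 K A = 1) : f (c : K) = c ∧ A = sGL c := by
  have etc : ∀ c : Kˣ, tc f c 1 = outC c (Units.map f.toMonoidHom c) (Units.map f.toMonoidHom (Units.map f.toMonoidHom c)) :=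
    fun c => rfl
  have key : ∀ S : Matrix.SpecialLinearGroup (Fin 2) K, Commute A (Matrix.SpecialLinearGroup.toGL S) := by
    intro S
    have e : gl2 K A = (H52.torus chevD4 (tc f c 1))⁻¹ := eq_inv_of_mul_eq_one_right h
    have e1 : gl2 K A * j K S * (gl2 K A)⁻¹ = j K S := by
      rw [e, etc, (out_comm_j _ _ _ S).inv_left.eq, mul_inv_cancel_right]
    rw [← gl2_sl, ← map_inv, ← map_mul, ← map_mul] at e1
    have hdet : Matrix.GeneralLinearGroup.det (A * Matrix.SpecialLinearGroup.toGL S * A⁻¹ *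
        (Matrix.SpecialLinearGroup.toGL S)⁻¹) = 1 := by
      simp only [map_mul, map_inv]
      rw [mul_comm (Matrix.GeneralLinearGroup.det A), mul_assoc (Matrix.GeneralLinearGroup.det (Matrix.SpecialLinearGroup.toGL S))]
      simp
    have e2 := gl2_eq_one (A := A * Matrix.SpecialLinearGroup.toGL S * A⁻¹ * (Matrix.SpecialLinearGroup.toGL S)⁻¹)
      (by rw [map_mul, map_inv, e1, mul_inv_cancel]) hdet
    rw [mul_inv_eq_one, mul_inv_eq_iff_eq_mul] at e2
    exact e2
  have cu := congrArg (fun z : GL (Fin 2) K => z.1) (key (uS 1)).eq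
  have cl := congrArg (fun z : GL (Fin 2) K => z.1) (key (lS 1)).eq
  simp only [Units.val_mul] at cu cl
  change A.1 * !![1, 1; 0, 1] = !![1, 1; 0, 1] * A.1 at cu
  change A.1 * !![1, 0; 1, 1] = !![1, 0; 1, 1] * A.1 at cl
  have u00 := congrFun (congrFun cu 0) 0
  have u01 := congrFun (congrFun cu 0) 1
  have l00 := congrFun (congrFun cl 0) 0
  simp [Matrix.mul_apply, Fin.sum_univ_two] at u00 u01 l00
  have hdiag : A.1 0 0 = A.1 1 1 := by linear_combination u01
  have hd : A.1.det ≠ 0 := ((Matrix.isUnit_iff_isUnit_det A.1).1 A.isUnit).ne_zero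
  have ha0 : A.1 0 0 ≠ 0 := fun h0 => hd (by rw [Matrix.det_fin_two, ← hdiag, h0, u00]; ring)
  set e : Kˣ := Units.mk0 _ ha0
  have hAe : A = sGL e := Units.ext (by
    show A.1 = !![A.1 0 0, 0; 0, A.1 0 0]
    ext i j
    fin_cases i <;> fin_cases j <;> simp [u00, l00, ← hdiag])
  have hef : f (e : K) = e := hA 0 0
  have hone : H52.torus chevD4 (tc f (c * e⁻¹) 1) = 1 := by
    rw [← h, hAe, gl2_sGL, ← map_mul]
    congr 1
    have m1 : Units.map f.toMonoidHom e = e := Units.ext hef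
    funext i
    fin_cases i <;> simp [tc, outC, map_mul, map_inv] <;>
      first | exact m1 | (exact Units.ext ((congrArg f hef).trans hef))
  set d : Kˣ := c * e⁻¹ with hd'
  have hw := fun (r : ℕ) (hr : r < 24) => D4Min.torus_x (tc f d 1) hr (1 : K)
  have w18 := hw 18 (by norm_num)
  have w14 := hw 14 (by norm_num)
  rw [hone, one_mul, inv_one, mul_one] at w18 w14
  have e18 := H52.checkedD4.rt_injective (r := 18) (by decide) w18
  have e14 := H52.checkedD4.rt_injective (r := 14) (by decide) w14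
  obtain ⟨v18, -, -, v14⟩ := wt_simple d (Units.map f.toMonoidHom d)
    (Units.map f.toMonoidHom (Units.map f.toMonoidHom d))
  rw [etc, v18, mul_one] at e18
  rw [etc, v14, mul_one, eq_comm, inv_eq_one] at e14
  have hd1 : (d : K) = 1 := by
    rcases sq_eq_one_iff.1 e18.symm with h' | h'
    · exact h'
    · change (d : K) * f d * f (f d) = 1 at e14
      rw [h'] at e14
      simp only [map_neg, map_one] at e14
      rw [h']
      linear_combination e14
  have hce : c = e := by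
    have : d = 1 := Units.ext hd1
    rwa [hd', mul_inv_eq_one] at this
  subst hce
  exact ⟨hef, hAe⟩

end H35.D4Torus
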