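import Cfsg.Agent.H35.D4Torus.Weyl
import Cfsg.Agent.H35.D4Min.Twisted

/-!
The subgroup of type A₁ of the highest root of D₄ and its extension to `GL₂`.
-/

set_option autoImplicit false
set_option linter.unusedSectionVars false

open Cfsg.Lie
open scoped MatrixGroups

namespace H35.D4Torus

variable {K : Type*} [Field K]

local notation "x" => H52.rt chevD4

/-- Upper transvection. -/
def uS (t : K) : Matrix.SpecialLinearGroup (Fin 2) K := ⟨!![1, t; 0, 1], by simp [Matrix.det_fin_two]⟩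

/-- Lower transvection. -/
def lS (t : K) : Matrix.SpecialLinearGroup (Fin 2) K := ⟨!![1, 0; t, 1], by simp [Matrix.det_fin_two]⟩

/-- The antidiagonal element. -/
def wS (c : Kˣ) : Matrix.SpecialLinearGroup (Fin 2) K :=
  ⟨!![0, (c : K); -(c : K)⁻¹, 0], by simp [Matrix.det_fin_two, mul_inv_cancel₀ c.ne_zero]⟩

theorem wS_eq (c : Kˣ) : wS c = uS (c : K) * lS (-(c : K)⁻¹) * uS (c : K) := by
  apply Subtype.ext
  show !![0, (c : K); -(c : K)⁻¹, 0] = !![1, (c : K); 0, 1] * !![1, 0; -(c : K)⁻¹, 1] * !![1, (c : K); 0, 1]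
  ext i j
  fin_cases i <;> fin_cases j <;> simp

theorem sl2_decomp {S : Matrix.SpecialLinearGroup (Fin 2) K} (h : S.1 1 0 ≠ 0) :
    S = uS ((S.1 0 0 - 1) / S.1 1 0) * lS (S.1 1 0) * uS ((S.1 1 1 - 1) / S.1 1 0) := by
  have hd := S.2
  rw [Matrix.det_fin_two] at hd
  apply Subtype.ext
  show S.1 = !![1, _; 0, 1] * !![1, 0; _, 1] * !![1, _; 0, 1]
  ext i j
  fin_cases i <;> fin_cases j <;> simp <;> field_simp
  · ring
  · linear_combination -hd
  · ring

theorem sl2_decomp' (S : Matrix.SpecialLinearGroup (Fin 2) K) :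
    ∃ a b c : K, S = uS a * lS b * uS c ∨ S * lS 1 = uS a * lS b * uS c := by
  by_cases h : S.1 1 0 = 0
  · refine ⟨_, _, _, Or.inr (sl2_decomp ?_)⟩
    have hd := S.2
    rw [Matrix.det_fin_two, h, mul_zero, sub_zero] at hd
    show (S.1 * !![1, 0; 1, 1] : Matrix (Fin 2) (Fin 2) K) 1 0 ≠ 0
    simp [Matrix.mul_apply, Fin.sum_univ_two, h]
    exact right_ne_zero_of_mul_eq_one hd
  · exact ⟨_, _, _, Or.inl (sl2_decomp h)⟩

theorem hom_ext {G : Type*} [Group G] {φ ψ : Matrix.SpecialLinearGroup (Fin 2) K →* G}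
    (hu : ∀ t, φ (uS t) = ψ (uS t)) (hl : ∀ t, φ (lS t) = ψ (lS t)) : φ = ψ := by
  refine MonoidHom.ext fun S => ?_
  obtain ⟨a, b, c, h | h⟩ := sl2_decomp' S
  · rw [h]; simp only [map_mul, hu, hl]
  · rw [eq_mul_inv_of_mul_eq h]; simp only [map_mul, map_inv, hu, hl]

theorem exists_j : ∃ φ : Matrix.SpecialLinearGroup (Fin 2) K →* GL chevD4.Idx K,
    (∀ t, φ (uS t) = x 23 t) ∧ ∀ t, φ (lS t) = x 0 t := by
  obtain ⟨φ, -, hφ⟩ := (H52.checkedD4.rankOneRel (F := K) (r := 23) (by decide)).exists_hom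
  refine ⟨φ, fun t => (hφ _ t).1 rfl, fun t => ?_⟩
  rw [(hφ _ t).2 rfl, show chevD4.neg 23 = 0 by decide +kernel]

/-- The homomorphism onto `⟨X₂₃, X₀⟩`. -/
noncomputable def j (K : Type*) [Field K] : Matrix.SpecialLinearGroup (Fin 2) K →* GL chevD4.Idx K :=
  Classical.choose exists_j

theorem j_u (t : K) : j K (uS t) = x 23 t := (Classical.choose_spec exists_j).1 t

theorem j_l (t : K) : j K (lS t) = x 0 t := (Classical.choose_spec exists_j).2 t

theorem j_w (c : Kˣ) : j K (wS c) = H52.nElt chevD4 23 (c : K) := by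
  rw [wS_eq, map_mul, map_mul, j_u, j_l, H52.Checked.nElt_eq, show chevD4.neg 23 = 0 by decide +kernel]

theorem j_mem_group (S : Matrix.SpecialLinearGroup (Fin 2) K) : j K S ∈ chevD4.group K := by
  obtain ⟨a, b, c, h | h⟩ := sl2_decomp' S
  · rw [h, map_mul, map_mul, j_u, j_u, j_l]
    exact mul_mem (mul_mem (H52.checkedD4.rt_mem_group _ _) (H52.checkedD4.rt_mem_group _ _))
      (H52.checkedD4.rt_mem_group _ _)
  · rw [eq_mul_inv_of_mul_eq h, map_mul, map_inv, map_mul, map_mul, j_u, j_u, j_l, j_l]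
    exact mul_mem (mul_mem (mul_mem (H52.checkedD4.rt_mem_group _ _) (H52.checkedD4.rt_mem_group _ _))
      (H52.checkedD4.rt_mem_group _ _)) (inv_mem (H52.checkedD4.rt_mem_group _ _))

theorem j_diag (a : Kˣ) :
    j K ⟨!![(a : K), 0; 0, (a : K)⁻¹], by simp [Matrix.det_fin_two, mul_inv_cancel₀ a.ne_zero]⟩ =
      H52.hElt chevD4 23 (a : K) := by
  rw [H52.Checked.hElt_eq]
  have e : (-1 : K) = ((-1 : Kˣ) : K) := by simp
  rw [e, ← j_w, ← j_w, ← map_mul]
  congr 1
  apply Subtype.ext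
  show !![(a : K), 0; 0, (a : K)⁻¹] = !![0, (a : K); -(a : K)⁻¹, 0] * !![0, ((-1 : Kˣ) : K); -((-1 : Kˣ) : K)⁻¹, 0]
  ext i j
  fin_cases i <;> fin_cases j <;> simp

theorem j_injective : Function.Injective (j K) := by
  rw [← MonoidHom.ker_eq_bot_iff, eq_bot_iff]
  intro S hS
  rw [MonoidHom.mem_ker] at hS
  by_cases h : S.1 1 0 = 0
  · have hd := S.2
    rw [Matrix.det_fin_two, h, mul_zero, sub_zero] at hd
    have h0 : S.1 0 0 ≠ 0 := left_ne_zero_of_mul_eq_one hd
    set a := Units.mk0 _ h0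
    set D : Matrix.SpecialLinearGroup (Fin 2) K :=
      ⟨!![(a : K), 0; 0, (a : K)⁻¹], by simp [Matrix.det_fin_two, mul_inv_cancel₀ a.ne_zero]⟩
    have e : S = D * uS (S.1 0 1 / S.1 0 0) := by
      apply Subtype.ext
      show S.1 = !![S.1 0 0, 0; 0, (S.1 0 0)⁻¹] * !![1, S.1 0 1 / S.1 0 0; 0, 1]
      ext i j
      fin_cases i <;> fin_cases j <;> simp [h, h0] <;> field_simp
      linear_combination hd
    rw [e, map_mul, j_diag, j_u, H52.checkedD4.hElt_eq_torus (by decide)] at hS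
    set cc : Fin chevD4.rank → Kˣ := fun i => a ^ H52.crt chevD4 23 i.val with hcc
    have hmem : x 23 (S.1 0 1 / S.1 0 0) ∈ chevD4.posUnipotent K ⊓ chevD4.diagonalSubgroup K := by
      refine ⟨H52.checkedD4.rt_mem_pos (by decide) (by decide) _, ?_⟩
      rw [← inv_eq_of_mul_eq_one_right hS, H52.checkedD4.diagonalSubgroup_eq]
      exact (H52.torus chevD4 (F := K)).range.inv_mem ⟨cc, rfl⟩
    rw [H52.checkedD4.pos_inf_diag, Subgroup.mem_bot] at hmem
    rw [hmem, mul_one] at hS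
    have hb : S.1 0 1 / S.1 0 0 = 0 :=
      H52.checkedD4.rt_injective (r := 23) (by decide) (hmem.trans (H52.checkedD4.rt_zero 23).symm)
    have ht := H52.checkedD4.torus_conj_rt cc (r := 14) (by decide) (1 : K)
    rw [hS, one_mul, inv_one, mul_one] at ht
    have ha := H52.checkedD4.rt_injective (r := 14) (by decide) ht
    rw [mul_one] at ha
    have hexp : ∑ i : Fin 4, H52.crt chevD4 23 i.val * chevD4.cartan i.val 14 = 1 := by decide +kernel
    have hprod : (∏ i : Fin chevD4.rank, cc i ^ chevD4.cartan i.val 14 : Kˣ) = a := by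
      simp only [hcc, ← zpow_mul]
      show ∏ i : Fin 4, a ^ (H52.crt chevD4 23 i.val * chevD4.cartan i.val 14) = a
      rw [Fin.prod_univ_four, ← zpow_add, ← zpow_add, ← zpow_add]
      rw [Fin.sum_univ_four] at hexp
      rw [hexp, zpow_one]
    rw [hprod] at ha
    rw [Subgroup.mem_bot, e, hb]
    apply Subtype.ext
    show !![S.1 0 0, 0; 0, (S.1 0 0)⁻¹] * !![1, (0 : K); 0, 1] = 1
    have ha' : S.1 0 0 = 1 := ha.symm
    ext i j
    fin_cases i <;> fin_cases j <;> simp [ha']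
  · exfalso
    set c := Units.mk0 _ h
    have e : S = uS (S.1 0 0 / S.1 1 0) * wS (-c⁻¹) * uS (S.1 1 1 / S.1 1 0) := by
      have hd := S.2
      rw [Matrix.det_fin_two] at hd
      apply Subtype.ext
      show S.1 = !![1, _; 0, 1] * !![0, ((-c⁻¹ : Kˣ) : K); -((-c⁻¹ : Kˣ) : K)⁻¹, 0] * !![1, _; 0, 1]
      ext i j
      fin_cases i <;> fin_cases j <;> simp [c] <;> field_simp
      linear_combination -hd
    rw [e, map_mul, map_mul, j_u, j_w, j_u] at hS
    set a := S.1 0 0 / S.1 1 0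
    set b := S.1 1 1 / S.1 1 0
    set n := H52.nElt chevD4 23 ((-c⁻¹ : Kˣ) : K)
    have hn : n = x 23 (-a) * x 23 (-b) := by
      rw [← D4Min.x_inv, ← D4Min.x_inv, eq_inv_mul_iff_mul_eq, eq_inv_iff_mul_eq_one]
      exact hS
    have h1 := H52.checkedD4.nElt_conj_rt_self (F := K) (r := 23) (by decide)
      ((-c⁻¹ : Kˣ).ne_zero) (1 : K)
    change n * _ * n⁻¹ = _ at h1
    rw [hn, D4Min.x_mul, D4Min.x_comm (r := 23) (s := 23) (by decide +kernel), mul_inv_cancel_right] at h1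
    have h2 := ctx.rt_eq_rt (F := K) (r := 23) (s := chevD4.neg 23) (by decide) (by decide +kernel)
      one_ne_zero h1
    exact absurd h2.1 (by decide +kernel)

/-- The torus element scaling `X₂₃`. -/
def nuC (d : Kˣ) : Fin chevD4.rank → Kˣ := fun i => [1, d, 1, 1].getD i.val 1

theorem wt_nuC (d : Kˣ) (r : ℕ) : D4Min.wt (nuC d) r = (d : K) ^ chevD4.cartan 1 r := by
  show ((∏ i : Fin 4, nuC d i ^ chevD4.cartan i.val r : Kˣ) : K) = _
  rw [Fin.prod_univ_four]
  simp [nuC, Units.val_zpow_eq_zpow_val]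

/-- `ν`. -/
noncomputable def nu (K : Type*) [Field K] : Kˣ →* GL chevD4.Idx K where
  toFun d := H52.torus chevD4 (nuC d)
  map_one' := by
    rw [← map_one (H52.torus chevD4 (F := K))]
    congr 1
    funext i
    fin_cases i <;> rfl
  map_mul' a b := by
    rw [← map_mul]
    congr 1
    funext i
    fin_cases i <;> simp [nuC]

/-- Conjugation by `diag(d, 1)`. -/
def dConj (d : Kˣ) : Matrix.SpecialLinearGroup (Fin 2) K →* Matrix.SpecialLinearGroup (Fin 2) K where
  toFun S := ⟨!![S.1 0 0, (d : K) * S.1 0 1; (d : K)⁻¹ * S.1 1 0, S.1 1 1], by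
    have := S.2
    rw [Matrix.det_fin_two] at this
    rw [Matrix.det_fin_two_of]
    field_simp
    linear_combination this⟩
  map_one' := by apply Subtype.ext; ext i j; fin_cases i <;> fin_cases j <;> simp
  map_mul' A B := by
    have hd := d.ne_zero
    apply Subtype.ext
    show !![(A.1 * B.1) 0 0, (d : K) * (A.1 * B.1) 0 1; (d : K)⁻¹ * (A.1 * B.1) 1 0, (A.1 * B.1) 1 1] =
      !![A.1 0 0, (d : K) * A.1 0 1; (d : K)⁻¹ * A.1 1 0, A.1 1 1] *
        !![B.1 0 0, (d : K) * B.1 0 1; (d : K)⁻¹ * B.1 1 0, B.1 1 1]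
    rw [Matrix.mul_fin_two]
    simp only [Matrix.mul_apply, Fin.sum_univ_two]
    congr 1
    ext i j
    fin_cases i <;> fin_cases j <;> simp <;> field_simp

theorem nu_conj_j (d : Kˣ) (S : Matrix.SpecialLinearGroup (Fin 2) K) :
    nu K d * j K S * (nu K d)⁻¹ = j K (dConj d S) := by
  refine DFunLike.congr_fun (hom_ext (φ := (MulAut.conj (nu K d)).toMonoidHom.comp (j K))
    (ψ := (j K).comp (dConj d)) (fun t => ?_) fun t => ?_) S
  · have e : dConj d (uS t) = uS ((d : K) * t) := by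
      apply Subtype.ext
      show !![1, (d : K) * t; (d : K)⁻¹ * 0, 1] = !![1, (d : K) * t; 0, 1]
      rw [mul_zero]
    simp only [MonoidHom.comp_apply, e, j_u, MulEquiv.coe_toMonoidHom, MulAut.conj_apply]
    show nu K d * _ * (nu K d)⁻¹ = _
    rw [show nu K d = H52.torus chevD4 (nuC d) from rfl, D4Min.torus_x _ (by norm_num), wt_nuC, show chevD4.cartan 1 23 = 1 by decide +kernel, zpow_one]
  · have e : dConj d (lS t) = lS ((d : K)⁻¹ * t) := by
      apply Subtype.ext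
      show !![1, (d : K) * 0; (d : K)⁻¹ * t, 1] = !![1, 0; (d : K)⁻¹ * t, 1]
      rw [mul_zero]
    simp only [MonoidHom.comp_apply, e, j_l, MulEquiv.coe_toMonoidHom, MulAut.conj_apply]
    show nu K d * _ * (nu K d)⁻¹ = _
    rw [show nu K d = H52.torus chevD4 (nuC d) from rfl, D4Min.torus_x _ (by norm_num), wt_nuC, show chevD4.cartan 1 0 = -1 by decide +kernel, zpow_neg_one]

/-- `A · diag(det A, 1)⁻¹`. -/
noncomputable def slPart (A : GL (Fin 2) K) : Matrix.SpecialLinearGroup (Fin 2) K :=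
  ⟨!![A.1 0 0 * A.1.det⁻¹, A.1 0 1; A.1 1 0 * A.1.det⁻¹, A.1 1 1], by
    have hd : A.1.det ≠ 0 := ((Matrix.isUnit_iff_isUnit_det A.1).1 A.isUnit).ne_zero
    simp only [Matrix.det_fin_two_of]
    rw [Matrix.det_fin_two] at hd ⊢
    field_simp⟩

/-- The homomorphism `GL₂ → G`. -/
noncomputable def gl2 (K : Type*) [Field K] : GL (Fin 2) K →* GL chevD4.Idx K :=
  MonoidHom.mk' (fun A => j K (slPart A) * nu K (Matrix.GeneralLinearGroup.det A)) fun A B => by
    rw [map_mul Matrix.GeneralLinearGroup.det, map_mul (nu K),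
      show ∀ a b c d : GL chevD4.Idx K, a * b * (c * d) = a * (b * c * b⁻¹) * (b * d) from
        fun a b c d => by group, nu_conj_j]
    congr 1
    rw [← map_mul]
    congr 1
    have hd : A.1.det ≠ 0 := ((Matrix.isUnit_iff_isUnit_det A.1).1 A.isUnit).ne_zero
    apply Subtype.ext
    show !![(A * B).1 0 0 * (A * B).1.det⁻¹, (A * B).1 0 1; (A * B).1 1 0 * (A * B).1.det⁻¹, (A * B).1 1 1] =
      !![A.1 0 0 * A.1.det⁻¹, A.1 0 1; A.1 1 0 * A.1.det⁻¹, A.1 1 1] *
        !![B.1 0 0 * B.1.det⁻¹, A.1.det * B.1 0 1; A.1.det⁻¹ * (B.1 1 0 * B.1.det⁻¹), B.1 1 1]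
    rw [Units.val_mul, Matrix.det_mul, mul_inv]
    ext i j
    fin_cases i <;> fin_cases j <;> simp [Matrix.mul_apply, Fin.sum_univ_two] <;> field_simp

theorem gl2_apply (A : GL (Fin 2) K) :
    gl2 K A = j K (slPart A) * nu K (Matrix.GeneralLinearGroup.det A) := rfl

theorem gl2_sl (S : Matrix.SpecialLinearGroup (Fin 2) K) :
    gl2 K (Matrix.SpecialLinearGroup.toGL S) = j K S := by
  have e : slPart (Matrix.SpecialLinearGroup.toGL S) = S := by
    apply Subtype.ext
    show !![S.1 0 0 * S.1.det⁻¹, S.1 0 1; S.1 1 0 * S.1.det⁻¹, S.1 1 1] = S.1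
    rw [S.2, inv_one, mul_one, mul_one]
    exact (Matrix.eta_fin_two S.1).symm
  rw [gl2_apply, e,
    show Matrix.GeneralLinearGroup.det (Matrix.SpecialLinearGroup.toGL S) = 1 from Units.ext S.2,
    map_one, mul_one]

theorem gl2_eq_one {A : GL (Fin 2) K} (h : gl2 K A = 1) (hd : Matrix.GeneralLinearGroup.det A = 1) :
    A = 1 := by
  rw [gl2_apply, hd, map_one, mul_one, ← map_one (j K)] at h
  have e := congrArg Subtype.val (j_injective h)
  have hd' : A.1.det = 1 := congrArg Units.val hd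
  apply Units.ext
  rw [Units.val_one]
  refine Eq.trans ?_ e
  show A.1 = !![A.1 0 0 * A.1.det⁻¹, A.1 0 1; A.1 1 0 * A.1.det⁻¹, A.1 1 1]
  rw [hd', inv_one, mul_one, mul_one]
  exact Matrix.eta_fin_two A.1

end H35.D4Torus
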