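import Cfsg.Agent.H35.D4Torus.Levi
import Cfsg.Agent.H61.SingerBasic
import Mathlib.FieldTheory.Finite.Extension

/-!
The cyclic torus of order `(q³ - 1)(q + 1)`.
-/

set_option autoImplicit false
set_option linter.unusedSectionVars false

open Cfsg.Lie
open scoped MatrixGroups

namespace H35.D4Torus

open D4Min (Frob tc wt)

universe u

variable {K : Type u} [Field K] [Fintype K]

/-- A Singer group of `GL₂` over the fixed field, inside `GL₂(K)`. -/
theorem exists_singer_gl2 {q : ℕ} {f : K ≃+* K} (hf : Frob q f) (hq : IsPrimePow q)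
    (hK : Fintype.card K = q ^ 3) :
    ∃ (L : Type) (_ : Field L) (_ : Finite L) (σ : Lˣ →* GL (Fin 2) K),
      Nat.card L = q ^ 2 ∧ Function.Injective σ ∧ (∀ u i k, f ((σ u).1 i k) = (σ u).1 i k) ∧
      (∀ c : Kˣ, f (c : K) = c → ∃ u, σ u = sGL c) ∧
      ∀ A : GL (Fin 2) K, (∀ i k, f (A.1 i k) = A.1 i k) → (∀ u, Commute A (σ u)) → ∃ u, σ u = A := by
  classical
  obtain ⟨p, a, hp, ha, rfl⟩ := hq
  haveI : Fact p.Prime := ⟨hp.nat_prime⟩
  haveI : CharP K p := by
    obtain ⟨p', hp'⟩ := CharP.exists K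
    obtain ⟨n, hpr, hn⟩ := FiniteField.card K p'
    have : p = p' := by
      have h : p' ∣ (p ^ a) ^ 3 := by rw [← hK, hn]; exact dvd_pow_self _ n.ne_zero
      exact ((Nat.prime_dvd_prime_iff_eq hpr hp.nat_prime).1 (hpr.dvd_of_dvd_pow (hpr.dvd_of_dvd_pow h))).symm
    exact this ▸ hp'
  let F0 : Subfield K :=
    { carrier := {t | f t = t}
      mul_mem' := fun {x y} hx hy => by simp only [Set.mem_setOf_eq] at *; rw [map_mul, hx, hy]
      one_mem' := map_one f
      add_mem' := fun {x y} hx hy => by simp only [Set.mem_setOf_eq] at *; rw [map_add, hx, hy]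
      zero_mem' := map_zero f
      neg_mem' := fun {x} hx => by simp only [Set.mem_setOf_eq] at *; rw [map_neg, hx]
      inv_mem' := fun x hx => by simp only [Set.mem_setOf_eq] at *; rw [map_inv₀, hx] }
  have hF0 : Nat.card F0 = p ^ a := by
    rw [Nat.card_congr (show F0 ≃ {t : K // t ^ (p ^ a) = t} from
      Equiv.subtypeEquivRight fun t => by show f t = t ↔ _; rw [hf.eq])]
    exact H53.card_pow_fixed (Nat.one_lt_pow ha.ne' hp.nat_prime.one_lt) hK
  haveI : CharP F0 p := by
    exact (F0.subtype).charP Subtype.val_injective p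
  let L := FiniteField.Extension F0 p 2
  haveI : Fintype L := Fintype.ofFinite _
  have hrank : Module.finrank F0 L = 2 := FiniteField.finrank_extension F0 p 2
  let b : Module.Basis (Fin 2) F0 L := Module.finBasisOfFinrankEq F0 L hrank
  let e : (Module.End F0 L)ˣ ≃* GL (Fin 2) F0 := Units.mapEquiv (LinearMap.toMatrixAlgEquiv b).toMulEquiv
  let σ : Lˣ →* GL (Fin 2) K :=
    (Matrix.GeneralLinearGroup.map F0.subtype).comp (e.toMonoidHom.comp (H61.singerHom F0 L))
  have hι : Function.Injective (Matrix.GeneralLinearGroup.map (n := Fin 2) F0.subtype) := fun A B h =>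
    Units.ext (Matrix.ext fun i k => Subtype.ext (congrArg (fun M : Matrix (Fin 2) (Fin 2) K => M i k) (congrArg Units.val h)))
  refine ⟨L, inferInstance, inferInstance, σ, ?_,
    hι.comp (e.injective.comp H61.singerHom_injective), fun u i k => ?_, fun c hc => ?_, fun A hA hcomm => ?_⟩
  · rw [FiniteField.natCard_extension, hF0]
  · exact ((e (H61.singerHom F0 L u)).1 i k).2
  · have hc0 : (⟨(c : K), hc⟩ : F0) ≠ 0 := fun h => c.ne_zero (congrArg Subtype.val h)
    refine ⟨Units.map (algebraMap F0 L) (Units.mk0 _ hc0), ?_⟩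
    have e1 : (H61.singerHom F0 L (Units.map (algebraMap F0 L) (Units.mk0 _ hc0)) : Module.End F0 L) =
        algebraMap F0 (Module.End F0 L) ⟨(c : K), hc⟩ := by
      refine LinearMap.ext fun y => ?_
      show algebraMap F0 L _ * y = _
      rw [← Algebra.smul_def]; rfl
    apply Units.ext
    show ((LinearMap.toMatrixAlgEquiv b) (H61.singerHom F0 L _ : Module.End F0 L)).map F0.subtype = _
    rw [e1, AlgEquiv.commutes]
    ext i k
    fin_cases i <;> fin_cases k <;> simp [sGL, Matrix.algebraMap_eq_diagonal]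
  · let A' : Matrix (Fin 2) (Fin 2) F0 := fun i k => ⟨A.1 i k, hA i k⟩
    have hdet : IsUnit A'.det := by
      rw [isUnit_iff_ne_zero]
      intro h0
      have h1 : (A'.map F0.subtype).det = 0 := by
        rw [← RingHom.mapMatrix_apply, ← RingHom.map_det, h0, map_zero]
      exact ((Matrix.isUnit_iff_isUnit_det A.1).1 A.isUnit).ne_zero h1
    let A0 : GL (Fin 2) F0 := ((Matrix.isUnit_iff_isUnit_det A').2 hdet).unit
    have hAA : Matrix.GeneralLinearGroup.map F0.subtype A0 = A := Units.ext rfl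
    obtain ⟨g, hg⟩ := e.surjective A0
    have hmem : g ∈ (H61.singerHom F0 L).range := by
      rw [← H61.centralizer_singer, Subgroup.mem_centralizer_iff]
      rintro _ ⟨u, rfl⟩
      apply e.injective
      apply hι
      rw [map_mul, map_mul, map_mul, map_mul, hg, hAA]
      exact (hcomm u).eq.symm
    obtain ⟨u, hu⟩ := hmem
    exact ⟨u, by show Matrix.GeneralLinearGroup.map F0.subtype (e (H61.singerHom F0 L u)) = A; rw [hu, hg, hAA]⟩

theorem main {q : ℕ} (hq : IsPrimePow q) (hK : Fintype.card K = q ^ 3) {f : K ≃+* K} (hf : Frob q f)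
    (hlev : ∀ (g : GL chevD4.Idx K), g ∈ twistedD4 K q →
      (∀ c : Kˣ, Commute g (H52.torus chevD4 (tc f c 1))) →
      ∀ (L : Type) (_ : Field L) (_ : Finite L) (σ : Lˣ →* GL (Fin 2) K), Nat.card L = q ^ 2 →
        Function.Injective σ → (∀ u i k, f ((σ u).1 i k) = (σ u).1 i k) →
        (∀ u, Commute g (gl2 K (σ u))) →
      ∃ (a b e : Kˣ) (A : GL (Fin 2) K), g = H52.torus chevD4 (outC a b e) * gl2 K A) :
    ∃ H : Subgroup ↥(twistedD4 K q), IsCyclic ↥H ∧ Nat.card ↥H = (q ^ 3 - 1) * (q + 1) ∧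
      Subgroup.centralizer (H : Set ↥(twistedD4 K q)) = H := by
  classical
  obtain ⟨L, _, _, σ, hL, hσ, hσf, hσs, hσc⟩ := exists_singer_gl2 hf hq hK
  haveI : Fintype L := Fintype.ofFinite L
  have hcomm : ∀ (c : Kˣ) (A : GL (Fin 2) K), Commute (H52.torus chevD4 (tc f c 1)) (gl2 K A) :=
    fun c A => out_comm_gl2 c _ _ A
  let Ψ : Kˣ × Lˣ →* ↥(twistedD4 K q) :=
    MonoidHom.mk' (fun p => ⟨H52.torus chevD4 (tc f p.1 1) * gl2 K (σ p.2),
      mul_mem (D4Min.torus_mem hf p.1 1 (map_one f)) (gl2_mem hf (hσf p.2))⟩) fun p r => by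
      apply Subtype.ext
      show H52.torus chevD4 (tc f (p.1 * r.1) 1) * gl2 K (σ (p.2 * r.2)) = (H52.torus chevD4 (tc f p.1 1) * gl2 K (σ p.2)) * (H52.torus chevD4 (tc f r.1 1) * gl2 K (σ r.2))
      have hmul : tc f (p.1 * r.1) 1 = tc f p.1 1 * tc f r.1 1 := by
        funext i; fin_cases i <;> simp [tc, map_mul]
      rw [hmul, map_mul, map_mul, map_mul,
        mul_assoc, ← mul_assoc (H52.torus chevD4 (tc f r.1 1)), (hcomm r.1 (σ p.2)).eq]
      group
  have hker : ∀ p, Ψ p = 1 ↔ f (p.1 : K) = p.1 ∧ σ p.2 = sGL p.1 := by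
    intro p
    constructor
    · intro h
      exact levi_inj hf (hσf p.2) (congrArg Subtype.val h)
    · rintro ⟨h1, h2⟩
      apply Subtype.ext
      show H52.torus chevD4 (tc f p.1 1) * gl2 K (σ p.2) = 1
      rw [h2, gl2_sGL, ← map_mul, ← map_one (H52.torus chevD4 (F := K))]
      congr 1
      have m1 : Units.map f.toMonoidHom p.1 = p.1 := Units.ext h1
      funext i
      fin_cases i <;> simp [tc, outC] <;>
        first | (rw [mul_inv_eq_one]; exact m1) | (rw [mul_inv_eq_one]; exact Units.ext ((congrArg f h1).trans h1))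
  -- the kernel
  let Fu := {c : Kˣ // f (c : K) = c}
  choose τ hτ using fun c : Fu => hσs c.1 c.2
  have hkcard : Nat.card Ψ.ker = q - 1 := by
    have e : Fu ≃ ↥Ψ.ker := Equiv.ofBijective (fun c => ⟨(c.1, τ c), (hker _).2 ⟨c.2, hτ c⟩⟩)
      ⟨fun c d h => Subtype.ext (congrArg (fun z : ↥Ψ.ker => z.1.1) h), fun z => by
        obtain ⟨⟨c, u⟩, hz⟩ := z
        obtain ⟨h1, h2⟩ := (hker _).1 hz
        exact ⟨⟨c, h1⟩, Subtype.ext (Prod.ext rfl (hσ ((hτ ⟨c, h1⟩).trans h2.symm)))⟩⟩
    rw [← Nat.card_congr e]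
    have e2 : Fu ≃ {t : {t : K // t ^ q = t} // t ≠ ⟨0, zero_pow (by have := hq.two_le; omega)⟩} :=
      { toFun := fun c => ⟨⟨c.1, by rw [← hf.eq]; exact c.2⟩, fun h => c.1.ne_zero (congrArg Subtype.val h)⟩
        invFun := fun t => ⟨Units.mk0 t.1.1 (fun h => t.2 (Subtype.ext h)), by rw [hf.eq]; exact t.1.2⟩
        left_inv := fun c => Subtype.ext (Units.ext rfl)
        right_inv := fun t => Subtype.ext (Subtype.ext rfl) }
    rw [Nat.card_congr e2, Nat.card_eq_fintype_card, Fintype.card_subtype_compl, Fintype.card_subtype_eq,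
      ← Nat.card_eq_fintype_card, H53.card_pow_fixed hq.one_lt hK]
  have hq2 := hq.two_le
  have hq23 : 1 ≤ q ^ 2 ∧ 1 ≤ q ^ 3 := ⟨Nat.one_le_pow _ _ (by omega), Nat.one_le_pow _ _ (by omega)⟩
  have hcard : Nat.card Ψ.range = (q ^ 3 - 1) * (q + 1) := by
    have h := Subgroup.card_eq_card_quotient_mul_card_subgroup Ψ.ker
    rw [Nat.card_congr (QuotientGroup.quotientKerEquivRange Ψ).toEquiv, hkcard, Nat.card_prod,
      Nat.card_units, Nat.card_units, hL, Nat.card_eq_fintype_card (α := K), hK,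
      show q ^ 2 - 1 = (q + 1) * (q - 1) by zify [hq23.1, (show 1 ≤ q by omega)]; ring, ← mul_assoc] at h
    exact (Nat.eq_of_mul_eq_mul_right (by omega) h).symm
  refine ⟨Ψ.range, ?_, hcard, le_antisymm (fun y hy => ?_) ?_⟩
  · letI : CommGroup ↥Ψ.range :=
      { (inferInstance : Group ↥Ψ.range) with
        mul_comm := fun x y => by
          obtain ⟨_, p, rfl⟩ := x
          obtain ⟨_, r, rfl⟩ := y
          apply Subtype.ext
          show Ψ p * Ψ r = Ψ r * Ψ p
          rw [← map_mul, mul_comm, map_mul] }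
    refine IsCyclic.iff_exponent_eq_card.2 (Nat.dvd_antisymm ?_ ?_)
    · exact Group.exponent_dvd_nat_card
    · rw [hcard]
      have hinj1 : Function.Injective (fun c : Kˣ => Ψ.rangeRestrict (c, 1)) := by
        intro c d h
        have h' : Ψ ((c, 1) / (d, 1)) = 1 := by
          rw [map_div, div_eq_one]; exact congrArg Subtype.val h
        obtain ⟨-, h2⟩ := (hker _).1 h'
        rw [Prod.snd_div, div_one, map_one, Prod.fst_div] at h2
        refine div_eq_one.1 (Units.ext ?_)
        have := congrArg (fun M : Matrix (Fin 2) (Fin 2) K => M 0 0) (congrArg Units.val h2.symm)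
        simpa [sGL] using this
      have hinj2 : Function.Injective (fun u : Lˣ => Ψ.rangeRestrict (1, u)) := by
        intro c d h
        have h' : Ψ ((1, c) / (1, d)) = 1 := by
          rw [map_div, div_eq_one]; exact congrArg Subtype.val h
        obtain ⟨-, h2⟩ := (hker _).1 h'
        rw [Prod.fst_div, div_one, Prod.snd_div] at h2
        refine div_eq_one.1 (hσ ?_)
        rw [h2, map_one]
        apply Units.ext
        show !![((1 : Kˣ) : K), 0; 0, ((1 : Kˣ) : K)] = 1
        ext i j; fin_cases i <;> fin_cases j <;> simp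
      have d1 : Nat.card Kˣ ∣ Monoid.exponent ↥Ψ.range := by
        obtain ⟨g, hg⟩ := IsCyclic.exists_ofOrder_eq_natCard (α := Kˣ)
        rw [← hg, ← orderOf_injective (Ψ.rangeRestrict.comp (MonoidHom.inl Kˣ Lˣ)) hinj1 g]
        exact Monoid.order_dvd_exponent _
      have d2 : Nat.card Lˣ ∣ Monoid.exponent ↥Ψ.range := by
        obtain ⟨g, hg⟩ := IsCyclic.exists_ofOrder_eq_natCard (α := Lˣ)
        rw [← hg, ← orderOf_injective (Ψ.rangeRestrict.comp (MonoidHom.inr Kˣ Lˣ)) hinj2 g]
        exact Monoid.order_dvd_exponent _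
      rw [Nat.card_units, Nat.card_eq_fintype_card, hK] at d1
      rw [Nat.card_units, hL] at d2
      have hlcm : Nat.lcm (q ^ 3 - 1) (q ^ 2 - 1) = (q ^ 3 - 1) * (q + 1) := by
        have hg : Nat.gcd (q ^ 3 - 1) (q ^ 2 - 1) = q - 1 := by
          rw [Nat.pow_sub_one_gcd_pow_sub_one]; norm_num
        rw [Nat.lcm, hg, show q ^ 2 - 1 = (q + 1) * (q - 1) by zify [hq23.1, (show 1 ≤ q by omega)]; ring,
          ← mul_assoc, Nat.mul_div_cancel _ (by omega)]
      rw [← hlcm]
      exact Nat.lcm_dvd d1 d2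
  · have hy' : ∀ p, Commute (y : GL chevD4.Idx K) (Ψ p : GL chevD4.Idx K) := fun p =>
      (congrArg Subtype.val (Subgroup.mem_centralizer_iff.1 hy (Ψ p) ⟨p, rfl⟩)).symm
    have hc : ∀ c : Kˣ, Commute (y : GL chevD4.Idx K) (H52.torus chevD4 (tc f c 1)) := fun c => by
      have := hy' (c, 1)
      change Commute _ (H52.torus chevD4 (tc f c 1) * gl2 K (σ 1)) at this
      rwa [map_one σ, map_one (gl2 K), mul_one] at this
    have hu : ∀ u : Lˣ, Commute (y : GL chevD4.Idx K) (gl2 K (σ u)) := fun u => by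
      have := hy' (1, u)
      change Commute _ (H52.torus chevD4 (tc f 1 1) * gl2 K (σ u)) at this
      have e : tc f (1 : Kˣ) 1 = 1 := by funext i; fin_cases i <;> simp [tc]
      rwa [e, map_one, one_mul] at this
    obtain ⟨a, b, e, A, he⟩ := hlev y y.2 hc L _ inferInstance σ hL hσ hσf hu
    obtain ⟨c, A0, hA0, he'⟩ := fixed_levi hf (he ▸ y.2)
    rw [he'] at he
    obtain ⟨u, hu'⟩ := hσc A0 hA0 fun u => by
      have h1 := hu u
      rw [he] at h1
      have h2 : gl2 K A0 * gl2 K (σ u) = gl2 K (σ u) * gl2 K A0 := by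
        have := h1.eq
        rw [← mul_assoc (gl2 K (σ u)), ← (hcomm c (σ u)).eq, mul_assoc, mul_assoc] at this
        exact mul_left_cancel this
      rw [← map_mul, ← map_mul] at h2
      have hdet : Matrix.GeneralLinearGroup.det (A0 * σ u * (σ u * A0)⁻¹) = 1 := by
        simp only [map_mul, map_inv]
        rw [mul_comm (Matrix.GeneralLinearGroup.det (σ u)), mul_inv_cancel]
      exact mul_inv_eq_one.1 (gl2_eq_one (by rw [map_mul, map_inv, h2, mul_inv_cancel]) hdet)
    refine ⟨(c, u), Subtype.ext ?_⟩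
    show H52.torus chevD4 (tc f c 1) * gl2 K (σ u) = _
    rw [hu', he]
  · rintro _ ⟨p, rfl⟩
    rw [Subgroup.mem_centralizer_iff]
    rintro _ ⟨r, rfl⟩
    rw [← map_mul, ← map_mul, mul_comm]

end H35.D4Torus
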