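import Cfsg.Agent.H35.D4Torus.Big

/-!
`q = 2`: the action of the centraliser of the split part on three root vectors.
-/

set_option autoImplicit false
set_option linter.unusedSectionVars false

open Cfsg.Lie
open scoped MatrixGroups

namespace H35.D4Torus

open D4Min (Frob tc wt)

variable {K : Type*} [Field K]

local notation "x" => H52.rt chevD4

/-- The three roots. -/
def ix : Fin 3 → ℕ := ![19, 18, 6]

/-- `g` acts on the three root vectors by `M`. -/
def Rep (g : GL chevD4.Idx K) (M : Matrix (Fin 3) (Fin 3) K) : Prop :=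
  ∀ k, (g : Matrix chevD4.Idx chevD4.Idx K).mulVec (H52.bv chevD4 K (ix k)) =
    ∑ l, M l k • H52.bv chevD4 K (ix l)

theorem Rep.one : Rep (1 : GL chevD4.Idx K) 1 := fun k => by
  rw [Units.val_one, Matrix.one_mulVec, Finset.sum_eq_single k (fun l _ h => by simp [Matrix.one_apply_ne h])
    (by simp), Matrix.one_apply_eq, one_smul]

theorem Rep.mul {g h : GL chevD4.Idx K} {M N : Matrix (Fin 3) (Fin 3) K} (hg : Rep g M) (hh : Rep h N) :
    Rep (g * h) (M * N) := fun k => by
  rw [Units.val_mul, ← Matrix.mulVec_mulVec, hh k, Matrix.mulVec_sum]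
  simp only [Matrix.mulVec_smul, hg _, Finset.smul_sum, smul_smul, Matrix.mul_apply, Finset.sum_smul]
  rw [Finset.sum_comm]
  refine Finset.sum_congr rfl fun l _ => Finset.sum_congr rfl fun i _ => ?_
  rw [mul_comm]

theorem exists_code : ∀ k : Fin 3, ∃ p : chevD4.Idx, H52.code chevD4 p = ix k := by
  decide +kernel

theorem ix_lt : ∀ k, ix k < chevD4.nroots := by decide

theorem ix_injective : Function.Injective ix := by
  intro a b; revert a b; decide

theorem Rep.unique {g : GL chevD4.Idx K} {M N : Matrix (Fin 3) (Fin 3) K} (h : Rep g M) (h' : Rep g N) :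
    M = N := by
  ext l k
  obtain ⟨p, hp⟩ := exists_code l
  have e := congrFun ((h k).symm.trans (h' k)) p
  have ev : ∀ i, H52.bv chevD4 K (ix i) p = if i = l then 1 else 0 := by
    intro i
    rw [H52.bv, H52.basisVec_eq]
    by_cases hil : i = l
    · subst hil; simp [hp]
    · rw [if_neg hil, if_neg]
      rw [hp]
      exact fun h'' => hil (ix_injective h'').symm
  simpa [Finset.sum_apply, ev] using e

theorem Rep.inv_spec {g : GL chevD4.Idx K} {M N : Matrix (Fin 3) (Fin 3) K} (hg : Rep g M)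
    (hi : Rep g⁻¹ N) : M * N = 1 ∧ N * M = 1 :=
  ⟨(by have := hg.mul hi; rw [mul_inv_cancel] at this; exact this.unique Rep.one),
    (by have := hi.mul hg; rw [inv_mul_cancel] at this; exact this.unique Rep.one)⟩

theorem rep_torus (c : Fin chevD4.rank → Kˣ) :
    Rep (H52.torus chevD4 c) (Matrix.diagonal fun k => wt c (ix k)) := fun k => by
  rw [Finset.sum_eq_single k (fun l _ h => by simp [Matrix.diagonal_apply_ne _ h]) (by simp),
    Matrix.diagonal_apply_eq, H52.torus_apply,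
    H52.dgR_bv_root _ (ix_lt k)]
  rfl

/-- The six roots, with the position of their matrix units. -/
def six : List (ℕ × Fin 3 × Fin 3) := [(14, 0, 1), (22, 1, 2), (23, 0, 2), (9, 1, 0), (1, 2, 1), (0, 2, 0)]

theorem six_table : ∀ p ∈ six, p.1 < 24 ∧ p.2.1 ≠ p.2.2 ∧ H53.d4Sym.qn p.1 = p.1 ∧ H53.d4Sym.sn p.1 = 1 ∧
    ∀ k : Fin 3, ix k ≠ p.1 ∧ ix k ≠ chevD4.neg p.1 ∧
      (chevD4.chainEntry p.1 (ix k)).length = (if k = p.2.2 then 1 else 0) ∧
      ∀ e ∈ chevD4.chainEntry p.1 (ix k), e.1 = ix p.2.1 ∧ e.2 % 2 = 1 := by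
  decide +kernel

theorem rep_six [CharP K 2] {p : ℕ × Fin 3 × Fin 3} (hp : p ∈ six) (t : K) :
    Rep (x p.1 t) (1 + t • Matrix.single p.2.1 p.2.2 (1 : K)) := by
  obtain ⟨hr, -, -, -, hk⟩ := six_table p hp
  intro k
  obtain ⟨h1, h2, hlen, hmem⟩ := hk k
  rw [H52.checkedD4.coe_rt, H52.checkedD4.x_bv_other hr t (ix_lt k) h1 h2]
  simp only [Matrix.add_apply, Matrix.smul_apply, add_smul, Finset.sum_add_distrib]
  congr 1
  · rw [Finset.sum_eq_single k (fun l _ h => by simp [Matrix.one_apply_ne h]) (by simp), Matrix.one_apply_eq, one_smul]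
  · by_cases hkc : k = p.2.2
    · subst hkc
      rw [if_pos rfl] at hlen
      obtain ⟨⟨w, m⟩, he⟩ := List.length_eq_one_iff.1 hlen
      obtain ⟨hw, hm⟩ := hmem (w, m) (by rw [he]; exact List.mem_singleton_self _)
      rw [he, Finset.sum_eq_single p.2.1 (fun l _ h => by simp [Matrix.single, (Ne.symm h)]) (by simp)]
      have hm1 : (m : K) = 1 := by
        have h0 : ((m - 1 : ℤ) : K) = 0 := (CharP.intCast_eq_zero_iff K 2 _).2 (by
          have : m % 2 = 1 := hm; omega)
        push_cast at h0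
        exact sub_eq_zero.1 h0
      simp only [H52.chainVec, hm1, one_mul, zero_add, pow_one, add_zero, Matrix.single_apply_same, smul_eq_mul,
        mul_one]
      subst hw
      rfl
    · rw [if_neg hkc, List.length_eq_zero_iff] at hlen
      rw [hlen]
      refine (Eq.trans ?_ (Finset.sum_eq_zero fun l _ => ?_).symm)
      · rfl
      · simp [Matrix.single, Ne.symm hkc]

/-- The subgroup generated by the six root subgroups. -/
def sub2 (K : Type*) [Field K] : Subgroup (GL chevD4.Idx K) :=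
  Subgroup.closure {g | ∃ p ∈ six, ∃ t : K, g = H52.rt chevD4 p.1 t}

theorem sub2_le : sub2 K ≤ chevD4.group K :=
  (Subgroup.closure_le _).2 fun _ ⟨p, _, t, hg⟩ => hg ▸ H52.checkedD4.rt_mem_group _ _

theorem rt_mem_sub2 {p : ℕ × Fin 3 × Fin 3} (hp : p ∈ six) (t : K) : x p.1 t ∈ sub2 K :=
  Subgroup.subset_closure ⟨p, hp, t, rfl⟩

theorem exists_upper [Fintype K] [CharP K 2] {c : Fin chevD4.rank → Kˣ}
    (hc : ∀ r, 12 ≤ r → r < 24 → r ≠ 14 → r ≠ 22 → r ≠ 23 → wt c r ≠ 1)
    {u : GL chevD4.Idx K} (hu : u ∈ chevD4.posUnipotent K)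
    (h : H52.torus chevD4 c * u * (H52.torus chevD4 c)⁻¹ = u) :
    ∃ a b d : K, u = x 14 a * x 22 b * x 23 d := by
  rw [H52.checkedD4.posUnipotent_eq, show chevD4.nroots / 2 = 12 from rfl] at hu
  obtain ⟨t, rfl⟩ := H52.checkedD4.exists_upProd (k := 12) le_rfl hu
  rw [upProd_conj c t 12 12 rfl] at h
  have h0 := H52.checkedD4.upProd_injective (k := 12) le_rfl h
  have hz : ∀ r, 12 ≤ r → r < 24 → r ≠ 14 → r ≠ 22 → r ≠ 23 → t r = 0 := by
    intro r h1 h2 h3 h4 h5
    have e' : (wt c r - 1) * t r = 0 := by rw [sub_mul, h0 r h1 h2, one_mul, sub_self]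
    exact (mul_eq_zero.1 e').resolve_left (sub_ne_zero.2 (hc r h1 h2 h3 h4 h5))
  refine ⟨t 14, t 22, t 23, ?_⟩
  have h24 : H52.upProd chevD4 24 t = 1 := by
    simp [H52.upProd, H52.wordRt, show chevD4.nroots = 24 by decide]
  rw [H52.Checked.upProd_step (k := 12) (by decide), H52.Checked.upProd_step (k := 13) (by decide),
    H52.Checked.upProd_step (k := 14) (by decide), H52.Checked.upProd_step (k := 15) (by decide),
    H52.Checked.upProd_step (k := 16) (by decide), H52.Checked.upProd_step (k := 17) (by decide),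
    H52.Checked.upProd_step (k := 18) (by decide), H52.Checked.upProd_step (k := 19) (by decide),
    H52.Checked.upProd_step (k := 20) (by decide), H52.Checked.upProd_step (k := 21) (by decide),
    H52.Checked.upProd_step (k := 22) (by decide), H52.Checked.upProd_step (k := 23) (by decide), h24,
    hz 12 (by norm_num) (by norm_num) (by norm_num) (by norm_num) (by norm_num),
    hz 13 (by norm_num) (by norm_num) (by norm_num) (by norm_num) (by norm_num),
    hz 15 (by norm_num) (by norm_num) (by norm_num) (by norm_num) (by norm_num),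
    hz 16 (by norm_num) (by norm_num) (by norm_num) (by norm_num) (by norm_num),
    hz 17 (by norm_num) (by norm_num) (by norm_num) (by norm_num) (by norm_num),
    hz 18 (by norm_num) (by norm_num) (by norm_num) (by norm_num) (by norm_num),
    hz 19 (by norm_num) (by norm_num) (by norm_num) (by norm_num) (by norm_num),
    hz 20 (by norm_num) (by norm_num) (by norm_num) (by norm_num) (by norm_num),
    hz 21 (by norm_num) (by norm_num) (by norm_num) (by norm_num) (by norm_num)]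
  simp only [D4Min.x_zero, one_mul, mul_one, mul_assoc]

theorem rep_upper [CharP K 2] (a b d : K) :
    Rep (x 14 a * x 22 b * x 23 d) !![1, a, d + a * b; 0, 1, b; 0, 0, 1] := by
  have h := ((rep_six (p := (14, 0, 1)) (by decide) a).mul (rep_six (p := (22, 1, 2)) (by decide) b)).mul
    (rep_six (p := (23, 0, 2)) (by decide) d)
  convert h using 1
  ext i k
  fin_cases i <;> fin_cases k <;> simp [Matrix.mul_apply, Fin.sum_univ_three, Matrix.single]

set_option synthInstance.maxSize 1024 in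
theorem exps_two : ∀ r < 24, (ex 2 r % 7 = 0 → r ∈ [14, 22, 23, 9, 1, 0]) ∧
    (r ∈ [14, 22, 23, 9, 1, 0] → ex 2 r % 7 = 0) ∧
    ((ex 2 r - ex 2 18) % 7 = 0 → r ∈ [6, 18, 19]) ∧ ((ex 2 r - ex 2 13) % 7 = 0 → r ∈ [3, 13, 16]) ∧
    ((ex 2 r - ex 2 12) % 7 = 0 → r ∈ [2, 12, 15]) ∧ (r ∈ [6, 18, 19] → (ex 2 r - ex 2 18) % 7 = 0) := by
  decide +kernel

set_option backward.isDefEq.respectTransparency false in
theorem word_six : ∀ p ∈ words, (∀ k : Fin 3, (ctx.wperm p.1 ⟨ix k, ix_lt k⟩).val = ix k) → p.1 = [] := by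
  decide +kernel

/-- The block embedding of `2 × 2` matrices. -/
def emb (A : Matrix (Fin 2) (Fin 2) K) : Matrix (Fin 3) (Fin 3) K :=
  !![A 0 0, 0, A 0 1; 0, 1, 0; A 1 0, 0, A 1 1]

theorem emb_one : emb (1 : Matrix (Fin 2) (Fin 2) K) = 1 := by
  ext i k; fin_cases i <;> fin_cases k <;> simp [emb]

theorem emb_mul (A B : Matrix (Fin 2) (Fin 2) K) : emb (A * B) = emb A * emb B := by
  ext i k; fin_cases i <;> fin_cases k <;>
    simp [emb, Matrix.mul_apply, Fin.sum_univ_three, Fin.sum_univ_two]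

theorem rep_j [CharP K 2] (S : Matrix.SpecialLinearGroup (Fin 2) K) : Rep (j K S) (emb S.1) := by
  have hu : ∀ t : K, Rep (j K (uS t)) (emb (uS t).1) := fun t => by
    rw [j_u]
    convert rep_six (p := (23, 0, 2)) (by decide) t using 1
    ext i k; fin_cases i <;> fin_cases k <;> simp [emb, uS, Matrix.single]
  have hl : ∀ t : K, Rep (j K (lS t)) (emb (lS t).1) := fun t => by
    rw [j_l]
    convert rep_six (p := (0, 2, 0)) (by decide) t using 1
    ext i k; fin_cases i <;> fin_cases k <;> simp [emb, lS, Matrix.single]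
  have hmul : ∀ {X Y : Matrix.SpecialLinearGroup (Fin 2) K}, Rep (j K X) (emb X.1) → Rep (j K Y) (emb Y.1) →
      Rep (j K (X * Y)) (emb (X * Y).1) := fun {X Y} hX hY => by
    rw [map_mul, Matrix.SpecialLinearGroup.coe_mul, emb_mul]
    exact hX.mul hY
  obtain ⟨a, b, c, h | h⟩ := sl2_decomp' S
  · rw [h]; exact hmul (hmul (hu a) (hl b)) (hu c)
  · have hinv : (lS (1 : K))⁻¹ = lS (-1) := inv_eq_of_mul_eq_one_right (by
      apply Subtype.ext
      show !![(1 : K), 0; 1, 1] * !![(1 : K), 0; -1, 1] = 1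
      ext i k; fin_cases i <;> fin_cases k <;> simp)
    rw [eq_mul_inv_of_mul_eq h, hinv]
    exact hmul (hmul (hmul (hu a) (hl b)) (hu c)) (hl _)

variable [Fintype K] {f : K ≃+* K} (hf : Frob 2 f)
include hf

theorem map_six (y : GL chevD4.Idx K) (hy : y ∈ sub2 K) [CharP K 2] :
    ∃ M, Rep y M ∧ Rep (H53.twistAut H53.d4Sym H53.d4Sym_valid f ⟨y, sub2_le hy⟩ : GL chevD4.Idx K)
      (M.map f) := by
  induction hy using Subgroup.closure_induction with
  | mem y hy =>
    obtain ⟨p, hp, t, rfl⟩ := hy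
    obtain ⟨hr, -, hq, hs, -⟩ := six_table p hp
    refine ⟨_, rep_six hp t, ?_⟩
    rw [H53.twistAut_rt H52.checkedD4 H53.d4Sym_valid f hr (t := t) rfl, hq, hs, Int.cast_one, one_mul]
    have e : (1 + t • Matrix.single p.2.1 p.2.2 (1 : K)).map f = 1 + f t • Matrix.single p.2.1 p.2.2 (1 : K) := by
      ext i k
      simp only [Matrix.map_apply, Matrix.add_apply, Matrix.smul_apply, map_add, smul_eq_mul, map_mul,
        Matrix.one_apply, Matrix.single_apply]
      split_ifs <;> simp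
    rw [e]
    exact rep_six hp (f t)
  | one =>
    refine ⟨1, Rep.one, ?_⟩
    have e : (⟨1, sub2_le (one_mem _)⟩ : ↥(chevD4.group K)) = 1 := rfl
    rw [e, map_one, Subgroup.coe_one, Matrix.map_one _ (map_zero f) (map_one f)]
    exact Rep.one
  | mul a b ha hb iha ihb =>
    obtain ⟨M, h1, h2⟩ := iha
    obtain ⟨N, h3, h4⟩ := ihb
    refine ⟨M * N, h1.mul h3, ?_⟩
    have e : (⟨a * b, sub2_le (mul_mem ha hb)⟩ : ↥(chevD4.group K)) = ⟨a, sub2_le ha⟩ * ⟨b, sub2_le hb⟩ := rfl
    rw [e, map_mul, Subgroup.coe_mul, Matrix.map_mul]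
    exact h2.mul h4
  | inv a ha iha =>
    obtain ⟨M, h1, h2⟩ := iha
    -- an inverse is a power
    obtain ⟨n, hn⟩ : ∃ n : ℕ, a⁻¹ = a ^ n := by
      refine ⟨orderOf a - 1, ?_⟩
      rw [inv_eq_iff_mul_eq_one, ← pow_succ', Nat.sub_add_cancel (orderOf_pos a), pow_orderOf_eq_one]
    have hp : ∀ n : ℕ, Rep (a ^ n) (M ^ n) ∧
        Rep ((H53.twistAut H53.d4Sym H53.d4Sym_valid f ⟨a, sub2_le ha⟩ : GL chevD4.Idx K) ^ n) ((M.map f) ^ n) := by
      intro n
      induction n with
      | zero => exact ⟨by simpa using Rep.one, by simpa using Rep.one⟩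
      | succ n ih => exact ⟨by rw [pow_succ, pow_succ]; exact ih.1.mul h1, by rw [pow_succ, pow_succ]; exact ih.2.mul h2⟩
    refine ⟨M ^ n, hn ▸ (hp n).1, ?_⟩
    have e : (⟨a⁻¹, sub2_le (inv_mem ha)⟩ : ↥(chevD4.group K)) = ⟨a, sub2_le ha⟩ ^ n := Subtype.ext hn
    rw [e, map_pow, Subgroup.coe_pow,
      show (M ^ n).map f = (M.map f) ^ n from map_pow (f.toRingHom.mapMatrix) M n]
    exact (hp n).2

theorem cent_levi_two (hK : Fintype.card K = 8) {g : GL chevD4.Idx K} (hg : g ∈ twistedD4 K 2)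
    (h : ∀ c : Kˣ, Commute g (H52.torus chevD4 (tc f c 1))) {S : Matrix.SpecialLinearGroup (Fin 2) K}
    (hSf : ∀ i j, f (S.1 i j) = S.1 i j) (hS10 : S.1 1 0 ≠ 0) (hS01 : S.1 0 1 ≠ 0)
    (hStr : S.1 0 0 + S.1 1 1 = 1) (hS : Commute g (j K S)) :
    ∃ (a b e : Kˣ) (A : GL (Fin 2) K), g = H52.torus chevD4 (outC a b e) * gl2 K A := by
  classical
  haveI : CharP K 2 := CharTwo.of_one_ne_zero_of_two_eq_zero one_ne_zero (by
    have h8 : ((Fintype.card K : ℕ) : K) = 0 := FiniteField.cast_card_eq_zero K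
    rw [hK, show ((8 : ℕ) : K) = 2 ^ 3 by norm_num] at h8
    exact pow_eq_zero_iff three_ne_zero |>.1 h8)
  have hK' : Fintype.card K = 2 ^ 3 := by rw [hK]; norm_num
  obtain ⟨g0, hg0⟩ := IsCyclic.exists_generator (α := Kˣ)
  have hord : orderOf g0 = 7 := by
    rw [orderOf_eq_card_of_forall_mem_zpowers hg0, Nat.card_eq_fintype_card, Fintype.card_units, hK]
  have hz : ∀ n : ℤ, g0 ^ n = 1 ↔ n % 7 = 0 := fun n => by
    rw [← orderOf_dvd_iff_zpow_eq_one, hord]
    exact ⟨Int.emod_eq_zero_of_dvd, Int.dvd_of_emod_eq_zero⟩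
  set c0 := tc f g0 1 with hc0
  have hwt : ∀ r s, wt c0 r = wt c0 s ↔ (ex 2 r - ex 2 s) % 7 = 0 := by
    intro r s
    rw [hc0, wt_tc hf, wt_tc hf, Units.val_inj, ← hz, zpow_sub, mul_inv_eq_one]
  have hw1 : ∀ r, wt c0 r = 1 ↔ ex 2 r % 7 = 0 := by
    intro r; rw [hc0, wt_tc hf, Units.val_eq_one, hz]
  have hne : ∀ r, 12 ≤ r → r < 24 → r ≠ 14 → r ≠ 22 → r ≠ 23 → wt c0 r ≠ 1 := by
    intro r h1 h2 a1 a2 a3 e
    have := (exps_two r h2).1 ((hw1 r).1 e)
    simp only [List.mem_cons, List.not_mem_nil, or_false] at this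
    omega
  -- elements of the centraliser: parts and representation
  have parts : ∀ g : GL chevD4.Idx K, g ∈ chevD4.group K → g * H52.torus chevD4 c0 = H52.torus chevD4 c0 * g →
      ∃ (a b d a' b' d' : K) (c : Fin chevD4.rank → Kˣ) (L : List (Fin chevD4.rank)) (w : Fin 3 → Fin 3)
        (e : Fin 3 → K),
        g = x 14 a * x 22 b * x 23 d * H52.torus chevD4 c * H54.Ctx.nw chevD4 K L * (x 14 a' * x 22 b' * x 23 d') ∧
        x 14 a' * x 22 b' * x 23 d' ∈ H54.Ctx.uinv chevD4 K (ctx.wperm L) ∧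
        (∃ p ∈ words, ctx.wperm L = ctx.wperm p.1) ∧
        (∀ k, e k ≠ 0) ∧ (∀ k, ∀ h' : ix k < chevD4.nroots, (ctx.wperm L ⟨ix k, h'⟩).val = ix (w k)) ∧
        Rep (H54.Ctx.nw chevD4 K L) (Matrix.of fun l k => if l = w k then e k else 0) ∧
        ∀ y ∈ sub2 K, g * y * g⁻¹ ∈ sub2 K := by
    intro g hgG hgc
    obtain ⟨u, hu, t, ht, L, v, hv, rfl, hzu, hzv, hperm⟩ := cent_parts c0 hgG hgc
    obtain ⟨a, b, d, rfl⟩ := exists_upper hne hu hzu
    obtain ⟨a', b', d', rfl⟩ := exists_upper hne (ctx.uinv_le _ hv) hzv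
    rw [H52.checkedD4.diagonalSubgroup_eq] at ht
    obtain ⟨c, rfl⟩ := ht
    have himg : ∀ k, ∀ h' : ix k < chevD4.nroots, (ctx.wperm L ⟨ix k, h'⟩).val ∈ [6, 18, 19] := fun k h' =>
      (exps_two _ (ctx.wperm L ⟨ix k, h'⟩).isLt).2.2.1 (by
        rw [← hwt, hperm, hwt]
        exact (exps_two _ h').2.2.2.2.2 (by fin_cases k <;> decide))
    have hk24 : ∀ k, ix k < chevD4.nroots := by intro k; fin_cases k <;> decide
    have hw : ∀ k, ∃ l, (ctx.wperm L ⟨ix k, hk24 k⟩).val = ix l := fun k => by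
      have := himg k (hk24 k)
      simp only [List.mem_cons, List.not_mem_nil, or_false] at this
      rcases this with e | e | e
      exacts [⟨2, e⟩, ⟨1, e⟩, ⟨0, e⟩]
    choose w hw using hw
    have hword : ∃ p ∈ words, ctx.wperm L = ctx.wperm p.1 := by
      obtain ⟨p, hp, e, -⟩ := classify (L := L)
        ((exps_two _ (ctx.wperm L (R 18)).isLt).2.2.1 (by rw [← hwt, hperm]))
        ((exps_two _ (ctx.wperm L (R 13)).isLt).2.2.2.1 (by rw [← hwt, hperm]))
        ((exps_two _ (ctx.wperm L (R 12)).isLt).2.2.2.2.1 (by rw [← hwt, hperm]))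
      exact ⟨p, hp, e⟩
    -- the monomial part
    have hn : ∀ r : Fin chevD4.nroots, ∃ e : K, e ≠ 0 ∧
        (H54.Ctx.nw chevD4 K L : Matrix chevD4.Idx chevD4.Idx K).mulVec (H52.bv chevD4 K r.val) =
          e • H52.bv chevD4 K (ctx.wperm L r).val := by
      clear hu hv hzu hzv hperm himg hw hword hgc hgG
      induction L with
      | nil => intro r; exact ⟨1, one_ne_zero, by simp [H54.Ctx.nw_nil, H54.Ctx.wperm_nil]⟩
      | cons i L ih =>
        intro r
        obtain ⟨e, he, hr⟩ := ih r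
        refine ⟨e * (ctx.T.eps i.val (ctx.wperm L r).val : K), mul_ne_zero he ?_, ?_⟩
        · rcases H52.Checked.eps_eq_or (T := ctx.T) i.val (ctx.wperm L r).val with h1 | h1 <;> simp [h1]
        · rw [H54.Ctx.nw_cons, Units.val_mul, ← Matrix.mulVec_mulVec, hr, Matrix.mulVec_smul,
            H53.coe_nGL ctx.hC, H54.Ctx.wperm_cons, Equiv.Perm.mul_apply, H54.Ctx.sigma_val]
          have := ctx.hC.sig_bv_root (F := K) i.isLt (ctx.wperm L r).isLt
          rw [this, smul_smul]
    choose e he hne' using hn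
    refine ⟨a, b, d, a', b', d', c, L, w, fun k => e ⟨ix k, hk24 k⟩, rfl, hv, hword, fun k => he _,
      fun k h' => hw k, fun k => ?_, ?_⟩
    · rw [hne' ⟨ix k, hk24 k⟩, hw k, Finset.sum_eq_single (w k) (fun l _ h => by simp [h]) (by simp)]
      simp
    · have hgen : ∀ {z : GL chevD4.Idx K}, (∀ p ∈ six, ∀ s : K, z * x p.1 s * z⁻¹ ∈ sub2 K) →
          ∀ y ∈ sub2 K, z * y * z⁻¹ ∈ sub2 K := by
        intro z hz y hy
        have hle : sub2 K ≤ (sub2 K).comap (MulAut.conj z).toMonoidHom :=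
          (Subgroup.closure_le _).2 fun _ ⟨p, hp, s, hs⟩ => hs ▸ hz p hp s
        exact hle hy
      have h3 : ∀ {a b d : K}, x 14 a * x 22 b * x 23 d ∈ sub2 K := fun {a b d} =>
        mul_mem (mul_mem (rt_mem_sub2 (p := (14, 0, 1)) (by decide) a) (rt_mem_sub2 (p := (22, 1, 2)) (by decide) b))
          (rt_mem_sub2 (p := (23, 0, 2)) (by decide) d)
      intro y hy
      have k1 : H54.Ctx.nw chevD4 K L * ((x 14 a' * x 22 b' * x 23 d') * y * (x 14 a' * x 22 b' * x 23 d')⁻¹) *
          (H54.Ctx.nw chevD4 K L)⁻¹ ∈ sub2 K := by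
        refine hgen (fun p hp s => ?_) _ (mul_mem (mul_mem h3 hy) (inv_mem h3))
        obtain ⟨e, -, h⟩ := nw_conj_all (K := K) L ⟨p.1, (six_table p hp).1⟩
        rw [h]
        have hmem : p.1 ∈ [14, 22, 23, 9, 1, 0] := by
          simp only [six, List.mem_cons, List.not_mem_nil, or_false] at hp
          rcases hp with rfl | rfl | rfl | rfl | rfl | rfl <;> decide
        have him : (ctx.wperm L ⟨p.1, (six_table p hp).1⟩).val ∈ [14, 22, 23, 9, 1, 0] :=
          (exps_two _ (Fin.isLt _)).1 (by rw [← hw1, hperm, hw1]; exact (exps_two _ (six_table p hp).1).2.1 hmem)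
        obtain ⟨p', hp', hpe⟩ : ∃ p' ∈ six, p'.1 = (ctx.wperm L ⟨p.1, (six_table p hp).1⟩).val := by
          have e6 : ([14, 22, 23, 9, 1, 0] : List ℕ) = six.map Prod.fst := rfl
          rw [e6, List.mem_map] at him
          exact him
        rw [← hpe]; exact rt_mem_sub2 hp' _
      have k2 := hgen (z := H52.torus chevD4 c) (fun p hp s => by
        rw [D4Min.torus_x _ (six_table p hp).1]; exact rt_mem_sub2 hp _) _ k1
      have k3 := mul_mem (mul_mem (h3 (a := a) (b := b) (d := d)) k2) (inv_mem (h3 (a := a) (b := b) (d := d)))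
      convert k3 using 1
      group
  have hgG := H53.D4T.twisted_le 2 hg
  obtain ⟨a, b, d, a', b', d', c, L, w, e, hge, -, -, he, -, hnrep, hsub⟩ := parts g hgG (h g0).eq
  set M := !![(1 : K), a, d + a * b; 0, 1, b; 0, 0, 1] * Matrix.diagonal (fun k => wt c (ix k)) *
    (Matrix.of fun l k => if l = w k then e k else 0) * !![(1 : K), a', d' + a' * b'; 0, 1, b'; 0, 0, 1] with hMdef
  have hM : Rep g M := by
    rw [hge]
    exact (((rep_upper a b d).mul (rep_torus c)).mul hnrep).mul (rep_upper a' b' d')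
  obtain ⟨n, hn⟩ : ∃ n : ℕ, g⁻¹ = g ^ n := by
    refine ⟨orderOf g - 1, ?_⟩
    rw [inv_eq_iff_mul_eq_one, ← pow_succ', Nat.sub_add_cancel (orderOf_pos g), pow_orderOf_eq_one]
  have hMn : ∀ n : ℕ, Rep (g ^ n) (M ^ n) := by
    intro n
    induction n with
    | zero => simpa using Rep.one
    | succ n ih => rw [pow_succ, pow_succ]; exact ih.mul hM
  obtain ⟨hi1, hi2⟩ := hM.inv_spec (hn ▸ hMn n)
  set Mi := M ^ n
  set Q := Mi * M.map f
  -- the twist
  have hkey : ∀ p ∈ six, Q * (1 + Matrix.single p.2.1 p.2.2 (1 : K)) = (1 + Matrix.single p.2.1 p.2.2 (1 : K)) * Q := by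
    intro p hp
    obtain ⟨hr, -, hq, hs, -⟩ := six_table p hp
    set E := (1 : Matrix (Fin 3) (Fin 3) K) + Matrix.single p.2.1 p.2.2 (1 : K)
    have hy := hsub _ (rt_mem_sub2 hp (1 : K))
    obtain ⟨P, hP, hPf⟩ := map_six hf _ hy
    have hP' : P = M * E * Mi := by
      refine hP.unique ?_
      have := rep_six hp (1 : K)
      rw [one_smul] at this
      exact (hM.mul this).mul (hn ▸ hMn n)
    have hfix : (H53.twistAut H53.d4Sym H53.d4Sym_valid f ⟨g * x p.1 1 * g⁻¹, sub2_le hy⟩ : GL chevD4.Idx K) =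
        g * x p.1 1 * g⁻¹ := by
      have e : (⟨g * x p.1 1 * g⁻¹, sub2_le hy⟩ : ↥(chevD4.group K)) =
          ⟨g, hgG⟩ * ⟨_, H52.checkedD4.rt_mem_group p.1 (1 : K)⟩ * (⟨g, hgG⟩)⁻¹ := rfl
      rw [e]
      simp only [map_mul, map_inv, Subgroup.coe_mul, Subgroup.coe_inv]
      rw [twist_fix hf hg, H53.twistAut_rt H52.checkedD4 H53.d4Sym_valid f hr (t := (1 : K)) rfl, hq, hs,
        Int.cast_one, one_mul, map_one]
    rw [hfix] at hPf
    have h2 : (M * E * Mi).map f = M * E * Mi := by rw [← hP']; exact hPf.unique hP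
    have hEf : E.map f = E := by
      ext i k
      simp only [E, Matrix.map_apply, Matrix.add_apply, map_add, Matrix.one_apply, Matrix.single_apply]
      split_ifs <;> simp
    rw [Matrix.map_mul, Matrix.map_mul, hEf] at h2
    have hf1 : Mi.map f * M.map f = 1 := by
      rw [← Matrix.map_mul, hi2, Matrix.map_one _ (map_zero f) (map_one f)]
    calc Q * E = Mi * (M.map f * E * Mi.map f) * M.map f := by
          simp only [Q, mul_assoc, hf1, mul_one]
      _ = E * Q := by
          rw [h2]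
          simp only [Q, ← mul_assoc, hi2, one_mul]
  have hoff : ∀ i k : Fin 3, i ≠ k → Q i k = 0 ∧ Q i i = Q k k := by
    intro i k hik
    have hp : ∀ i k : Fin 3, i ≠ k → ∃ p ∈ six, p.2.1 = i ∧ p.2.2 = k := by decide
    obtain ⟨p, hp, rfl, rfl⟩ := hp i k hik
    have h1 := hkey p hp
    rw [mul_add, add_mul, mul_one, one_mul, add_right_inj] at h1
    have e1 := congrArg (fun A : Matrix (Fin 3) (Fin 3) K => A p.2.1 p.2.2) h1
    simp at e1
    refine ⟨?_, e1⟩
    obtain ⟨p', hp', h1', h2'⟩ := (show ∀ i k : Fin 3, i ≠ k → ∃ p ∈ six, p.2.1 = i ∧ p.2.2 = k by decide)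
      p.2.2 p.2.1 (Ne.symm hik)
    have h3 := hkey p' hp'
    rw [mul_add, add_mul, mul_one, one_mul, add_right_inj, h1', h2'] at h3
    have e3 := congrArg (fun A : Matrix (Fin 3) (Fin 3) K => A p.2.1 p.2.1) h3
    simpa [hik] using e3
  have hQ : ∀ i k, M.map f i k = M i k * Q 0 0 := by
    intro i k
    have e : M.map f = M * Q := by rw [show M * Q = M * Mi * M.map f from (mul_assoc _ _ _).symm, hi1, one_mul]
    rw [e, Matrix.mul_apply, Finset.sum_eq_single k (fun l _ hl => by rw [(hoff l k hl).1, mul_zero]) (by simp)]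
    by_cases hk : k = 0
    · rw [hk]
    · rw [(hoff k 0 hk).2]
  -- commuting with `S`
  set α := S.1 0 0 with hα
  have hS11 : S.1 1 1 = 1 + α := by
    have : S.1 1 1 = 1 - α := by linear_combination hStr
    rw [this, CharTwo.sub_eq_add]
  have two : ∀ {s : K}, f s = s → s = 0 ∨ s = 1 := by
    intro s hs
    rw [hf.eq] at hs
    have : s * (s - 1) = 0 := by linear_combination hs
    rcases mul_eq_zero.1 this with h' | h'
    · exact Or.inl h'
    · exact Or.inr (sub_eq_zero.1 h')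
  have hc10 : S.1 1 0 = 1 := (two (hSf 1 0)).resolve_left hS10
  have hb01 : S.1 0 1 = 1 := (two (hSf 0 1)).resolve_left hS01
  set T : Matrix (Fin 3) (Fin 3) K := !![α, 0, 1; 0, 1, 0; 1, 0, 1 + α] with hT
  have hrepS : Rep (j K S) T := by
    have := rep_j S
    rwa [show emb S.1 = T by rw [emb, hc10, hb01, hS11]] at this
  have hMT : M * T = T * M := (hM.mul hrepS).unique (hS.eq ▸ hrepS.mul hM)
  have ent : ∀ i k, (M * T) i k = (T * M) i k := fun i k => by rw [hMT]
  have m01 := ent 0 1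
  have m21 := ent 2 1
  have m10 := ent 1 0
  have m12 := ent 1 2
  simp [T, Matrix.mul_apply, Fin.sum_univ_three] at m01 m21 m10 m12
  have hα' : α = 0 ∨ α = 1 := two (hSf 0 0)
  have z01 : M 0 1 = 0 ∧ M 2 1 = 0 := by
    rcases hα' with h' | h' <;> rw [h'] at m01 m21
    exacts [⟨by linear_combination -m21, by linear_combination -m01 - m21⟩,
      ⟨by linear_combination m01 - m21, by linear_combination -m01⟩]
  have z10 : M 1 0 = 0 ∧ M 1 2 = 0 := by
    rcases hα' with h' | h' <;> rw [h'] at m10 m12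
    exacts [⟨by linear_combination m12, by linear_combination m10 + m12⟩,
      ⟨by linear_combination m12 - m10, by linear_combination m10⟩]
  have hdM : M.det ≠ 0 := left_ne_zero_of_mul_eq_one (by rw [← Matrix.det_mul, hi1, Matrix.det_one])
  rw [Matrix.det_fin_three, z01.1, z01.2, z10.1, z10.2] at hdM
  simp only [mul_zero, zero_mul, sub_zero, add_zero] at hdM
  have hm : M 1 1 ≠ 0 := fun h0 => hdM (by rw [h0]; ring1)
  set m := M 1 1 with hmdef
  have hfm : f m = m * Q 0 0 := hQ 1 1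
  have hQ0 : Q 0 0 ≠ 0 := fun h0 => hm (f.injective (by rw [hfm, h0, mul_zero, map_zero]))
  have hfix : ∀ i k, f (M i k / m) = M i k / m := fun i k => by
    rw [map_div₀, show f (M i k) = M i k * Q 0 0 from hQ i k, hfm, mul_div_mul_right _ _ hQ0]
  have hd1 : M 0 0 / m * (M 2 2 / m) - M 0 2 / m * (M 2 0 / m) = 1 := by
    refine (two (by simp only [map_sub, map_mul, hfix])).resolve_left fun h0 => hdM ?_
    field_simp at h0
    linear_combination m * h0
  set S0 : Matrix.SpecialLinearGroup (Fin 2) K :=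
    ⟨!![M 0 0 / m, M 0 2 / m; M 2 0 / m, M 2 2 / m], by rw [Matrix.det_fin_two_of]; exact hd1⟩ with hS0
  have hS0f : ∀ i k, f (S0.1 i k) = S0.1 i k := by
    intro i k; fin_cases i <;> fin_cases k <;> exact hfix _ _
  have hMS : M = m • emb S0.1 := by
    ext i k
    fin_cases i <;> fin_cases k <;>
      simp [S0, emb, z01.1, z01.2, z10.1, z10.2, mul_div_cancel₀ _ hm, ← hmdef]
  set g' := g * (j K S0)⁻¹ with hg'
  have hg't : g' ∈ twistedD4 K 2 := mul_mem hg (inv_mem (j_mem hf hS0f))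
  have hz' : Commute (H52.torus chevD4 c0) (j K S0) := out_comm_j g0 _ _ S0
  have hg'c : Commute g' (H52.torus chevD4 c0) := (h g0).mul_left hz'.symm.inv_left
  have hrep' : Rep g' (m • 1) := by
    have h1 := hM.mul (rep_j S0⁻¹)
    rw [map_inv, hMS, Matrix.smul_mul, ← emb_mul, ← Matrix.SpecialLinearGroup.coe_mul, mul_inv_cancel,
      Matrix.SpecialLinearGroup.coe_one, emb_one] at h1
    exact h1
  obtain ⟨a, b, d, a', b', d', c, L, w, e, hge, hv, ⟨p, hp, hLp⟩, he, hw, hnrep, -⟩ :=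
    parts g' (H53.D4T.twisted_le 2 hg't) hg'c.eq
  have hR : !![(1 : K), a, d + a * b; 0, 1, b; 0, 0, 1] * Matrix.diagonal (fun k => wt c (ix k)) *
      (Matrix.of fun l k => if l = w k then e k else 0) * !![(1 : K), a', d' + a' * b'; 0, 1, b'; 0, 0, 1] =
      m • 1 :=
    (hge ▸ ((((rep_upper a b d).mul (rep_torus c)).mul hnrep).mul (rep_upper a' b' d')) : Rep g' _).unique hrep'
  have hwne : ∀ k, wt c (ix k) ≠ 0 := fun k => Units.ne_zero _
  have E : ∀ i k, (!![(1 : K), a, d + a * b; 0, 1, b; 0, 0, 1] * Matrix.diagonal (fun k => wt c (ix k)) *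
      (Matrix.of fun l k => if l = w k then e k else 0) * !![(1 : K), a', d' + a' * b'; 0, 1, b'; 0, 0, 1]) i k =
      (m • (1 : Matrix (Fin 3) (Fin 3) K)) i k := fun i k => by rw [hR]
  have hwid : ∀ k, w k = k := by
    have e20 := E 2 0
    have e10 := E 1 0
    have e21 := E 2 1
    have e11 := E 1 1
    have e22 := E 2 2
    simp only [Matrix.mul_apply, Fin.sum_univ_three, Matrix.diagonal_apply, Matrix.smul_apply, Matrix.one_apply] at e20 e10 e21 e11 e22
    simp at e20 e10 e21 e11 e22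
    have w0 : w 0 = 0 := by
      rcases (show ∀ z : Fin 3, z = 0 ∨ z = 1 ∨ z = 2 by decide) (w 0) with h0 | h0 | h0
      · exact h0
      all_goals simp [h0, hwne, he] at e20 e10
    have w1 : w 1 = 1 := by
      rcases (show ∀ z : Fin 3, z = 0 ∨ z = 1 ∨ z = 2 by decide) (w 1) with h0 | h0 | h0
      · simp [w0, h0, Ne.symm hm] at e11
      · exact h0
      · simp [w0, h0, hwne, he] at e21
    have w2 : w 2 = 2 := by
      rcases (show ∀ z : Fin 3, z = 0 ∨ z = 1 ∨ z = 2 by decide) (w 2) with h0 | h0 | h0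
      · simp [w0, w1, h0, Ne.symm hm] at e22
      · simp [w0, w1, h0, Ne.symm hm] at e22
      · exact h0
    intro k; fin_cases k
    exacts [w0, w1, w2]
  have hL1 : ctx.wperm L = 1 := by
    rw [hLp, word_six p hp fun k => by rw [← hLp, hw k (ix_lt k), hwid k], H54.Ctx.wperm_nil]
  have hv1 : x 14 a' * x 22 b' * x 23 d' = 1 := by
    rw [hL1] at hv
    refine (Subgroup.mem_bot).1 ((?_ : H54.Ctx.uinv chevD4 K 1 ≤ ⊥) hv)
    refine (Subgroup.closure_le _).2 ?_
    rintro z ⟨r, t, hr, hr', -⟩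
    exact absurd hr' (not_lt.2 hr)
  have ht2 := mul_mem (show H52.torus chevD4 c ∈ chevD4.diagonalSubgroup K by
      rw [H52.checkedD4.diagonalSubgroup_eq]; exact ⟨c, rfl⟩) (H54.Ctx.nw_mem_diag (F := K) ctx hL1)
  rw [H52.checkedD4.diagonalSubgroup_eq] at ht2
  obtain ⟨c2, hc2⟩ := ht2
  rw [hv1, mul_one, mul_assoc (x 14 a * x 22 b * x 23 d), ← hc2] at hge
  have hU := (hge ▸ (rep_upper a b d).mul (rep_torus c2) : Rep g' _).unique hrep'
  have E2 : ∀ i k, (!![(1 : K), a, d + a * b; 0, 1, b; 0, 0, 1] * Matrix.diagonal (fun k => wt c2 (ix k))) i k =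
      (m • (1 : Matrix (Fin 3) (Fin 3) K)) i k := fun i k => by rw [hU]
  have hwne2 : ∀ k, wt c2 (ix k) ≠ 0 := fun k => Units.ne_zero _
  have ea := E2 0 1
  have eb := E2 1 2
  have ed := E2 0 2
  simp [Matrix.mul_diagonal, hwne2] at ea eb ed
  simp [ea, eb] at ed
  rw [ea, eb, ed, D4Min.x_zero, D4Min.x_zero, D4Min.x_zero, one_mul, one_mul, one_mul] at hge
  obtain ⟨a1, b1, e1, A, hA⟩ := torus_j c2 S0
  exact ⟨a1, b1, e1, A, by rw [← hA, ← hge, hg', inv_mul_cancel_right]⟩

end H35.D4Torus
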