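import Cfsg.Agent.H54.ChevCtx
import Cfsg.Agent.H52.DataD4

/-!
Weyl group of D₄: elements stabilising the classes of three orthogonal simple roots.
-/

set_option autoImplicit false
set_option linter.unusedSectionVars false

open Cfsg.Lie

namespace H35.D4Torus

/-- The checked data of D₄. -/
def ctx : H54.Ctx chevD4 := ⟨H52.tablesD4, H52.checkedD4, H53.weylForD4, H54.chainOK_of_mem _ (by simp)⟩

/-- The coefficient vector of a root. -/
abbrev rv (r : Fin chevD4.nroots) : Fin chevD4.rank → ℤ := H53.weylForD4.data.v r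

theorem rv_eq : ∀ r s, rv r = rv s → r = s := fun _ _ h => H53.weylForD4.v_inj h

theorem exists_linear (L : List (Fin chevD4.rank)) :
    ∃ f : (Fin chevD4.rank → ℤ) ≃ₗ[ℤ] (Fin chevD4.rank → ℤ), ∀ r, f (rv r) = rv (ctx.wperm L r) := by
  induction L with
  | nil => exact ⟨LinearEquiv.refl ℤ _, fun r => rfl⟩
  | cons i L ih =>
    obtain ⟨f, hf⟩ := ih
    refine ⟨f.trans (H53.WeylData.S H53.weylForD4.valid i), fun r => ?_⟩
    rw [LinearEquiv.trans_apply, hf, H53.WeylData.S_v, H54.Ctx.wperm_cons, Equiv.Perm.mul_apply]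
    rfl

/-- A word permutation is given by the images of the simple roots. -/
theorem wperm_ext {L L' : List (Fin chevD4.rank)}
    (h : ∀ k, ctx.wperm L (H53.weylForD4.data.simple k) = ctx.wperm L' (H53.weylForD4.data.simple k)) :
    ctx.wperm L = ctx.wperm L' := by
  obtain ⟨f, hf⟩ := exists_linear L
  obtain ⟨f', hf'⟩ := exists_linear L'
  have e : f = f' := H53.WeylData.ext_simple H53.weylForD4.valid fun k => by rw [hf, hf', h]
  exact Equiv.ext fun r => rv_eq _ _ (by rw [← hf, ← hf', e])

/-- Indices of roots. -/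
abbrev R (n : ℕ) (h : n < 24 := by norm_num) : Fin chevD4.nroots := ⟨n, h⟩

/-- Indices of nodes. -/
def I (i : Fin 4) : Fin chevD4.rank := ⟨i.val, i.isLt⟩

/-- The lattice condition on candidate images of the simple roots. -/
def linOK (a b c d : Fin chevD4.nroots) : Bool :=
  decide (∀ r, ∃ t, ∀ k, rv t k = rv r (I 0) * rv a k + rv r (I 1) * rv b k + rv r (I 2) * rv c k + rv r (I 3) * rv d k)

set_option backward.isDefEq.respectTransparency false in
theorem linOK_wperm (L : List (Fin chevD4.rank)) :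
    linOK (ctx.wperm L (R 18)) (ctx.wperm L (R 14)) (ctx.wperm L (R 13)) (ctx.wperm L (R 12)) = true := by
  obtain ⟨f, hf⟩ := exists_linear L
  refine decide_eq_true fun r => ⟨ctx.wperm L r, fun k => ?_⟩
  have e : rv r = rv r (I 0) • rv (R 18) + rv r (I 1) • rv (R 14) + rv r (I 2) • rv (R 13) + rv r (I 3) • rv (R 12) := by
    revert r; decide +kernel
  have e2 := congrArg f e
  rw [map_add, map_add, map_add, map_smul, map_smul, map_smul, map_smul, hf, hf, hf, hf, hf] at e2
  rw [e2]; rfl

/-- The six words of the Weyl group of the subsystem spanned by 14, 22, 23. -/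
def words : List (List (Fin chevD4.rank) × List ℕ) :=
  ([([], [18, 14, 13, 12]), ([1, 2, 0, 1, 3, 1, 2, 0, 1], [18, 1, 13, 12]), ([1], [19, 9, 16, 15]),
    ([2, 0, 1, 3, 1, 2, 0], [6, 23, 3, 2]), ([1, 2, 0, 1, 3, 1, 2, 0], [6, 22, 3, 2]),
    ([2, 0, 1, 3, 1, 2, 0, 1], [19, 0, 16, 15])] : List (List (Fin 4) × List ℕ)).map fun p => (p.1.map I, p.2)

/-- The word of the reflection in the highest root. -/
def w23 : List (Fin chevD4.rank) := ([1, 2, 0, 1, 3, 1, 2, 0, 1] : List (Fin 4)).map I

set_option backward.isDefEq.respectTransparency false in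
theorem words_img : ∀ p ∈ words, [(ctx.wperm p.1 (R 18)).val, (ctx.wperm p.1 (R 14)).val,
    (ctx.wperm p.1 (R 13)).val, (ctx.wperm p.1 (R 12)).val] = p.2 := by
  decide +kernel

set_option backward.isDefEq.respectTransparency false in
theorem tuples : ∀ a ∈ ([R 6, R 18, R 19] : List (Fin chevD4.nroots)),
    ∀ c ∈ ([R 3, R 13, R 16] : List (Fin chevD4.nroots)), ∀ d ∈ ([R 2, R 12, R 15] : List (Fin chevD4.nroots)),
    ∀ b, linOK a b c d = true → [a.val, b.val, c.val, d.val] ∈ words.map Prod.snd := by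
  decide +kernel

/-- The elements stabilising the three classes. -/
theorem classify {L : List (Fin chevD4.rank)} (h18 : (ctx.wperm L (R 18)).val ∈ [6, 18, 19])
    (h13 : (ctx.wperm L (R 13)).val ∈ [3, 13, 16]) (h12 : (ctx.wperm L (R 12)).val ∈ [2, 12, 15]) :
    ∃ p ∈ words, ctx.wperm L = ctx.wperm p.1 ∧ [(ctx.wperm L (R 18)).val, (ctx.wperm L (R 14)).val,
      (ctx.wperm L (R 13)).val, (ctx.wperm L (R 12)).val] = p.2 := by
  have mem3 : ∀ (x : Fin chevD4.nroots) (a b c : ℕ) (ha : a < 24) (hb : b < 24) (hc : c < 24),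
      x.val ∈ [a, b, c] → x ∈ ([R a ha, R b hb, R c hc] : List (Fin chevD4.nroots)) := by
    intro x a b c ha hb hc hx
    simp only [List.mem_cons, List.not_mem_nil, or_false] at hx ⊢
    rcases hx with h | h | h
    · exact Or.inl (Fin.ext h)
    · exact Or.inr (Or.inl (Fin.ext h))
    · exact Or.inr (Or.inr (Fin.ext h))
  have ht := tuples _ (mem3 _ _ _ _ (by norm_num) (by norm_num) (by norm_num) h18) _
    (mem3 _ _ _ _ (by norm_num) (by norm_num) (by norm_num) h13) _
    (mem3 _ _ _ _ (by norm_num) (by norm_num) (by norm_num) h12) _ (linOK_wperm L)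
  obtain ⟨p, hp, he⟩ := List.mem_map.1 ht
  refine ⟨p, hp, wperm_ext fun k => Fin.ext ?_, he.symm⟩
  have e := (words_img p hp).trans he
  simp only [List.cons.injEq, and_true] at e
  obtain ⟨e1, e2, e3, e4⟩ := e
  have hs : ∀ k, H53.weylForD4.data.simple k = R 18 ∨ H53.weylForD4.data.simple k = R 14 ∨
      H53.weylForD4.data.simple k = R 13 ∨ H53.weylForD4.data.simple k = R 12 := by decide +kernel
  rcases hs k with h | h | h | h <;> rw [h]
  exacts [e1.symm, e2.symm, e3.symm, e4.symm]

theorem classify_fix {L : List (Fin chevD4.rank)} (h18 : ctx.wperm L (R 18) = R 18)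
    (h13 : ctx.wperm L (R 13) = R 13) (h12 : ctx.wperm L (R 12) = R 12) :
    ctx.wperm L = 1 ∨ ctx.wperm L = ctx.wperm w23 := by
  obtain ⟨p, hp, h, he⟩ := classify (L := L) (by simp [h18]) (by simp [h13]) (by simp [h12])
  rw [h18, h13, h12] at he
  simp only [words, List.map_cons, List.map_nil, List.mem_cons, List.not_mem_nil, or_false] at hp
  rcases hp with rfl | rfl | rfl | rfl | rfl | rfl
  · exact Or.inl h
  · exact Or.inr h
  all_goals simp at he

end H35.D4Torus
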